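import Mathlib

/-!
# Automorphisms of order three with abelian odd fixed points: basic set-up
-/

set_option autoImplicit false

namespace Cfsg.Agent.Lib.FpfS3.Basic

universe u

variable {G : Type u} [Group G]

/-- The subgroup of fixed points. -/
def fixSub (σ : G ≃* G) : Subgroup G where
  carrier := {x | σ x = x}
  mul_mem' := by
    intro a b ha hb
    show σ (a * b) = a * b
    rw [map_mul, show σ a = a from ha, show σ b = b from hb]
  one_mem' := map_one σ
  inv_mem' := by
    intro a ha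
    show σ a⁻¹ = a⁻¹
    rw [map_inv, show σ a = a from ha]

lemma mem_fixSub {σ : G ≃* G} {x : G} : x ∈ fixSub σ ↔ σ x = x := Iff.rfl

/-- The class of pairs: order prime to three, fixed points abelian without involutions. -/
structure Hyp (σ : G ≃* G) : Prop where
  h3 : ¬ 3 ∣ Nat.card G
  hσ : ∀ x, σ (σ (σ x)) = x
  hcomm : ∀ x y, σ x = x → σ y = y → x * y = y * x
  hinv : ∀ x, σ x = x → x * x = 1 → x = 1

/-- A map of period three on a set of size prime to three has a fixed point. -/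
theorem exists_fixed_of_not_dvd {X : Type*} [Finite X] (f : X → X)
    (hf : ∀ x, f (f (f x)) = x) (h : ¬ 3 ∣ Nat.card X) : ∃ x, f x = x := by
  classical
  have := Fintype.ofFinite X
  have : Fact (Nat.Prime 3) := ⟨Nat.prime_three⟩
  let F : Function.End X := f
  have hF : F ^ 3 ^ 1 = 1 := by
    funext x
    show f (f (f x)) = x
    exact hf x
  have hm := Equiv.Perm.card_fixedPoints_modEq (p := 3) (n := 1) hF
  by_contra hcon
  push Not at hcon
  have h0 : Fintype.card (Function.fixedPoints F) = 0 := by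
    rw [Fintype.card_eq_zero_iff]
    exact ⟨fun x => hcon x.1 x.2⟩
  rw [h0] at hm
  apply h
  rw [Nat.card_eq_fintype_card]
  exact (Nat.modEq_zero_iff_dvd).1 hm

section coset

variable [Finite G]

/-- A coset of a `σ`-invariant subgroup stable under `σ` contains a fixed point. -/
theorem exists_fixed_in_coset {σ : G ≃* G} (hσ : ∀ x, σ (σ (σ x)) = x) (h3 : ¬ 3 ∣ Nat.card G)
    (N : Subgroup G) (hN : ∀ x ∈ N, σ x ∈ N) (g : G) (hg : g⁻¹ * σ g ∈ N) :
    ∃ n ∈ N, σ (g * n) = g * n := by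
  classical
  let f : N → N := fun n => ⟨(g⁻¹ * σ g) * σ n, N.mul_mem hg (hN _ n.2)⟩
  have hf : ∀ n, f (f (f n)) = n := by
    intro n
    apply Subtype.ext
    show (g⁻¹ * σ g) * σ ((g⁻¹ * σ g) * σ ((g⁻¹ * σ g) * σ (n : G))) = n
    simp only [map_mul, map_inv, hσ]
    group
  have hc : ¬ 3 ∣ Nat.card N := fun h => h3 (h.trans (Subgroup.card_subgroup_dvd_card N))
  obtain ⟨n, hn⟩ := exists_fixed_of_not_dvd f hf hc
  refine ⟨n, n.2, ?_⟩
  have h1 : (g⁻¹ * σ g) * σ (n : G) = n := congrArg Subtype.val hn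
  rw [map_mul]
  calc σ g * σ (n : G) = g * ((g⁻¹ * σ g) * σ (n : G)) := by group
    _ = g * n := by rw [h1]

end coset

/-- Restriction of `σ` to an invariant subgroup. -/
def resA (σ : G ≃* G) (hσ : ∀ x, σ (σ (σ x)) = x) (H : Subgroup G) (hH : ∀ x ∈ H, σ x ∈ H) :
    H ≃* H where
  toFun x := ⟨σ x, hH _ x.2⟩
  invFun x := ⟨σ (σ x), hH _ (hH _ x.2)⟩
  left_inv x := Subtype.ext (hσ x)
  right_inv x := Subtype.ext (hσ x)
  map_mul' x y := Subtype.ext (map_mul σ _ _)

@[simp] lemma coe_resA (σ : G ≃* G) (hσ : ∀ x, σ (σ (σ x)) = x) (H : Subgroup G)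
    (hH : ∀ x ∈ H, σ x ∈ H) (x : H) : ((resA σ hσ H hH x : H) : G) = σ x := rfl

theorem Hyp.res [Finite G] {σ : G ≃* G} (h : Hyp σ) (H : Subgroup G) (hH : ∀ x ∈ H, σ x ∈ H) :
    Hyp (resA σ h.hσ H hH) where
  h3 := fun h' => h.h3 (h'.trans (Subgroup.card_subgroup_dvd_card H))
  hσ := fun x => Subtype.ext (h.hσ x)
  hcomm := fun x y hx hy => Subtype.ext
    (h.hcomm x y (congrArg Subtype.val hx) (congrArg Subtype.val hy))
  hinv := fun x hx hxx => Subtype.ext (h.hinv x (congrArg Subtype.val hx) (congrArg Subtype.val hxx))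

/-- The automorphism induced on a quotient. -/
def quoA (σ : G ≃* G) (hσ : ∀ x, σ (σ (σ x)) = x) (N : Subgroup G) [N.Normal]
    (hN : ∀ x ∈ N, σ x ∈ N) : (G ⧸ N) ≃* (G ⧸ N) where
  toFun := QuotientGroup.map N N σ.toMonoidHom (fun x hx => hN x hx)
  invFun := QuotientGroup.map N N (σ.toMonoidHom.comp σ.toMonoidHom) (fun x hx => hN _ (hN x hx))
  left_inv x := by
    induction x using QuotientGroup.induction_on with
    | H z =>
      show ((σ (σ (σ z)) : G) : G ⧸ N) = z
      rw [hσ]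
  right_inv x := by
    induction x using QuotientGroup.induction_on with
    | H z =>
      show ((σ (σ (σ z)) : G) : G ⧸ N) = z
      rw [hσ]
  map_mul' := map_mul _

@[simp] lemma quoA_mk (σ : G ≃* G) (hσ : ∀ x, σ (σ (σ x)) = x) (N : Subgroup G) [N.Normal]
    (hN : ∀ x ∈ N, σ x ∈ N) (x : G) : quoA σ hσ N hN (x : G ⧸ N) = ((σ x : G) : G ⧸ N) := rfl

/-- A fixed point of `σ` in the quotient lifts to a fixed point. -/
theorem exists_fixed_lift [Finite G] {σ : G ≃* G} (h : Hyp σ) (N : Subgroup G) [N.Normal]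
    (hN : ∀ x ∈ N, σ x ∈ N) (q : G ⧸ N) (hq : quoA σ h.hσ N hN q = q) :
    ∃ y : G, σ y = y ∧ (y : G ⧸ N) = q := by
  induction q using QuotientGroup.induction_on with
  | H g =>
    have h1 : g⁻¹ * σ g ∈ N := by
      rw [quoA_mk] at hq
      exact (QuotientGroup.eq).1 hq.symm
    obtain ⟨n, hn, hfix⟩ := exists_fixed_in_coset h.hσ h.h3 N hN g h1
    refine ⟨g * n, hfix, ?_⟩
    exact (QuotientGroup.eq).2 (by simpa using N.inv_mem hn)

/-- An element of `G` fixed by `σ` with `y * y ∈ N`-type power condition. -/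
lemma pow_two_eq_one_of_fixed [Finite G] {σ : G ≃* G} (h : Hyp σ) {y : G} (hy : σ y = y)
    (hyy : ∃ k, y ^ 2 ^ k = 1) : y = 1 := by
  classical
  obtain ⟨k, hk⟩ := hyy
  induction k with
  | zero => simpa using hk
  | succ k ih =>
    apply ih
    apply h.hinv (y ^ 2 ^ k)
    · rw [map_pow, hy]
    · rw [← pow_add, ← two_mul, ← pow_succ']
      exact hk

theorem fixSub_odd [Finite G] {σ : G ≃* G} (h : Hyp σ) : Odd (Nat.card (fixSub σ)) := by
  classical
  rw [← Nat.not_even_iff_odd]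
  intro he
  have : Fact (Nat.Prime 2) := ⟨Nat.prime_two⟩
  obtain ⟨x, hx⟩ := exists_prime_orderOf_dvd_card' (G := fixSub σ) 2 he.two_dvd
  have h1 : σ (x : G) = x := x.2
  have h2 : (x : G) * x = 1 := by
    have := pow_orderOf_eq_one x
    rw [hx, pow_two] at this
    exact congrArg Subtype.val this
  have h3 := h.hinv x h1 h2
  have : x = 1 := Subtype.ext h3
  rw [this, orderOf_one] at hx
  omega

theorem Hyp.quo [Finite G] {σ : G ≃* G} (h : Hyp σ) (N : Subgroup G) [N.Normal]
    (hN : ∀ x ∈ N, σ x ∈ N) : Hyp (quoA σ h.hσ N hN) where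
  h3 := fun h' => h.h3 (h'.trans (Subgroup.card_quotient_dvd_card N))
  hσ := by
    intro x
    induction x using QuotientGroup.induction_on with
    | H z =>
      show ((σ (σ (σ z)) : G) : G ⧸ N) = z
      rw [h.hσ]
  hcomm := by
    intro x y hx hy
    obtain ⟨a, ha, rfl⟩ := exists_fixed_lift h N hN x hx
    obtain ⟨b, hb, rfl⟩ := exists_fixed_lift h N hN y hy
    rw [← QuotientGroup.mk_mul, ← QuotientGroup.mk_mul, h.hcomm a b ha hb]
  hinv := by
    intro x hx hxx
    obtain ⟨a, ha, rfl⟩ := exists_fixed_lift h N hN x hx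
    have h1 : a * a ∈ N := by
      rw [← QuotientGroup.mk_mul] at hxx
      exact (QuotientGroup.eq_one_iff _).1 hxx
    -- `a` has odd order, so it is a power of `a * a`
    have hodd : Odd (orderOf a) := by
      have h2 : orderOf a ∣ Nat.card (fixSub σ) := by
        have : orderOf (⟨a, mem_fixSub.2 ha⟩ : fixSub σ) ∣ Nat.card (fixSub σ) := orderOf_dvd_natCard _
        rwa [Subgroup.orderOf_mk] at this
      exact Odd.of_dvd_nat (fixSub_odd h) h2
    obtain ⟨m, hm⟩ := hodd
    have h2 : a = (a * a) ^ (m + 1) := by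
      have h3 : (a * a) ^ (m + 1) = a ^ (2 * m + 1) * a := by
        rw [← pow_two, ← pow_mul, ← pow_succ a (2 * m + 1)]
        congr 1
      rw [h3, ← hm, pow_orderOf_eq_one, one_mul]
    rw [h2]
    rw [QuotientGroup.eq_one_iff]
    exact N.pow_mem h1 _

end Cfsg.Agent.Lib.FpfS3.Basic
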