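import Cfsg.Agent.Lib.FpfS3.Basic

/-!
# A fixed-point-free automorphism of order three of a finite `2`-group: class at most two
-/

set_option autoImplicit false
set_option linter.unusedVariables false

namespace Cfsg.Agent.Lib.FpfS3.ClassTwo

open scoped commutatorElement
open Cfsg.Agent.Lib.FpfS3.Basic

universe u

section core

variable {S : Type u} [Group S] [Finite S] (σ : S ≃* S)
  (hσ : ∀ x, σ (σ (σ x)) = x) (hf : ∀ x, σ x = x → x = 1)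

include hσ hf

/-- `y σ(y) σ²(y) = 1`. -/
lemma norm_eq_one (y : S) : y * σ y * σ (σ y) = 1 := by
  classical
  have hinj : Function.Injective (fun x : S => x⁻¹ * σ x) := by
    intro a b hab
    have h1 : a⁻¹ * σ a = b⁻¹ * σ b := hab
    have h2 : σ (b * a⁻¹) = b * a⁻¹ := by
      rw [map_mul, map_inv]
      have : σ b = b * (a⁻¹ * σ a) := by rw [h1]; group
      rw [this]; group
    have h3 := hf _ h2
    have : b = a := by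
      have := mul_inv_eq_one.1 h3
      exact this
    exact this.symm
  have hsurj := Finite.surjective_of_injective hinj
  obtain ⟨x, rfl⟩ := hsurj y
  show x⁻¹ * σ x * σ (x⁻¹ * σ x) * σ (σ (x⁻¹ * σ x)) = 1
  simp only [map_mul, map_inv, hσ]
  group

lemma sq_eq (y : S) : σ (σ y) = (σ y)⁻¹ * y⁻¹ := by
  have := norm_eq_one σ hσ hf y
  have h2 : σ (σ y) = (y * σ y)⁻¹ := by
    rw [mul_assoc] at this
    exact eq_inv_of_mul_eq_one_right (by rw [mul_assoc]; exact this)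
  rw [h2]; group

/-- `y` commutes with `σ y`. -/
lemma comm_self (y : S) : y * σ y = σ y * y := by
  have h := norm_eq_one σ hσ hf (y * σ y)
  simp only [map_mul, hσ] at h
  have h2 := sq_eq σ hσ hf y
  rw [h2] at h
  -- y σy σy (σy⁻¹ y⁻¹) (σy⁻¹ y⁻¹) y = 1
  have h3 : y * σ y * y⁻¹ * (σ y)⁻¹ = 1 := by
    calc y * σ y * y⁻¹ * (σ y)⁻¹ = y * σ y * (σ y * ((σ y)⁻¹ * y⁻¹)) * ((σ y)⁻¹ * y⁻¹ * y) := by group
      _ = 1 := h
  have h4 : y * σ y * y⁻¹ = σ y := by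
    calc y * σ y * y⁻¹ = y * σ y * y⁻¹ * (σ y)⁻¹ * σ y := by group
      _ = σ y := by rw [h3, one_mul]
  calc y * σ y = y * σ y * y⁻¹ * y := by group
    _ = σ y * y := by rw [h4]

/-- `⁅x, y⁆ = ⁅x σx, (σ y)⁻¹⁆`. -/
lemma k2 (x y : S) : ⁅x, y⁆ = ⁅x * σ x, (σ y)⁻¹⁆ := by
  have h := norm_eq_one σ hσ hf (x * y⁻¹)
  simp only [map_mul, map_inv] at h
  rw [sq_eq σ hσ hf x, sq_eq σ hσ hf y] at h
  have hc := comm_self σ hσ hf x
  have hc2 := comm_self σ hσ hf y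
  simp only [commutatorElement_def]
  generalize σ x = a at *
  generalize σ y = b at *
  have h' : x * y⁻¹ * (a * b⁻¹ * (a⁻¹ * x⁻¹)) * (y * b) = 1 := by
    simp only [mul_inv_rev, inv_inv] at h
    calc x * y⁻¹ * (a * b⁻¹ * (a⁻¹ * x⁻¹)) * (y * b)
        = x * y⁻¹ * (a * b⁻¹) * (a⁻¹ * x⁻¹ * (y * b)) := by group
      _ = 1 := h
  have hQ : a * b⁻¹ * (a⁻¹ * x⁻¹) = y * x⁻¹ * (y * b)⁻¹ := by
    calc a * b⁻¹ * (a⁻¹ * x⁻¹)
        = y * x⁻¹ * (x * y⁻¹ * (a * b⁻¹ * (a⁻¹ * x⁻¹)) * (y * b)) * (y * b)⁻¹ := by group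
      _ = y * x⁻¹ * (y * b)⁻¹ := by rw [h']; group
  have hb : (y * b)⁻¹ * b = y⁻¹ := by
    rw [hc2]; group
  calc x * y * x⁻¹ * y⁻¹ = x * (y * x⁻¹ * ((y * b)⁻¹ * b)) := by rw [hb]; group
    _ = x * (y * x⁻¹ * (y * b)⁻¹) * b := by group
    _ = x * (a * b⁻¹ * (a⁻¹ * x⁻¹)) * b := by rw [hQ]
    _ = x * a * b⁻¹ * (x * a)⁻¹ * (b⁻¹)⁻¹ := by group

/-- `⁅x, y⁆ = ⁅σ x, σ² y⁆`. -/
lemma k3 (x y : S) : ⁅x, y⁆ = ⁅σ x, σ (σ y)⁆ := by
  have h1 := k2 σ hσ hf x y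
  have h2 := k2 σ hσ hf (x * σ x) (σ y)⁻¹
  rw [h1, h2]
  have e1 : x * σ x * σ (x * σ x) = σ x := by
    rw [map_mul]
    have := norm_eq_one σ hσ hf (σ x)
    rw [hσ] at this
    have h3 : σ x * σ (σ x) = x⁻¹ := by
      have := norm_eq_one σ hσ hf x
      rw [mul_assoc] at this
      exact eq_inv_of_mul_eq_one_right this
    rw [mul_assoc, h3]
    have hc := comm_self σ hσ hf x
    calc x * (σ x * x⁻¹) = x * σ x * x⁻¹ := by group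
      _ = σ x * x * x⁻¹ := by rw [hc]
      _ = σ x := by group
  rw [e1]
  congr 1
  simp only [map_inv, inv_inv]

lemma k4 (x y : S) : ⁅x, σ y⁆ = ⁅σ x, y⁆ := by
  have h := k3 σ hσ hf x (σ y)
  rw [hσ] at h
  exact h

/-- `⁅σ x, y⁆ = σ² ⁅x, y⁆`. -/
lemma k5 (x y : S) : ⁅σ x, y⁆ = σ (σ ⁅x, y⁆) := by
  have h := k4 σ hσ hf (σ x) (σ (σ y))
  rw [hσ] at h
  simp only [commutatorElement_def, map_mul, map_inv] at h ⊢
  exact h

end core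

section step

variable {S : Type u} [Group S] [Finite S] (σ : S ≃* S)
  (hσ : ∀ x, σ (σ (σ x)) = x) (hf : ∀ x, σ x = x → x = 1)
  (hcen : ∀ a b c d : S, ⁅⁅a, b⁆, c⁆ * d = d * ⁅⁅a, b⁆, c⁆)

include hσ hf hcen

/-- `⁅x, ⁅x, w⁆⁆ = 1` when triple commutators are central. -/
lemma inner_eq_one (x w : S) : ⁅⁅x, w⁆, x⁆ = 1 := by
  set u := ⁅x, w⁆ with hu
  -- τ := ⁅u, x⁆ central
  set τ := ⁅u, x⁆ with hτ
  have hτc : ∀ d : S, τ * d = d * τ := fun d => hcen x w x d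
  have hστc : ∀ d : S, σ τ * d = d * σ τ := by
    intro d
    have := hτc (σ (σ d))
    have h2 := congrArg σ this
    simp only [map_mul, hσ] at h2
    exact h2
  -- x u x⁻¹ = τ⁻¹ u
  have hconj : x * u * x⁻¹ = τ⁻¹ * u := by
    have : τ = u * x * u⁻¹ * x⁻¹ := rfl
    rw [this]; group
  -- 1 = ⁅x * (σ x * σ² x), w⁆
  have h1 : (x * (σ x * σ (σ x))) = 1 := by
    rw [← mul_assoc]; exact norm_eq_one σ hσ hf x
  have hk1 : ⁅σ x, w⁆ = σ (σ u) := k5 σ hσ hf x w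
  have hk2 : ⁅σ (σ x), w⁆ = σ u := by
    rw [k5 σ hσ hf (σ x) w, hk1, hσ]
  have hid : ⁅x * (σ x * σ (σ x)), w⁆
      = x * (σ x * ⁅σ (σ x), w⁆ * (σ x)⁻¹ * ⁅σ x, w⁆) * x⁻¹ * ⁅x, w⁆ := by
    simp only [commutatorElement_def]; group
  rw [h1, hk1, hk2, ← hu] at hid
  have h0 : ⁅(1 : S), w⁆ = 1 := by simp [commutatorElement_def]
  rw [h0] at hid
  -- σ x σ u σ x⁻¹ = σ (x u x⁻¹) = σ τ⁻¹ σ u
  have h2 : σ x * σ u * (σ x)⁻¹ = (σ τ)⁻¹ * σ u := by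
    have := congrArg σ hconj
    simpa only [map_mul, map_inv] using this
  rw [h2] at hid
  have h3 : σ u * σ (σ u) = u⁻¹ := by
    have := norm_eq_one σ hσ hf u
    rw [mul_assoc] at this
    exact eq_inv_of_mul_eq_one_right this
  have h4 : (σ τ)⁻¹ * σ u * σ (σ u) = (σ τ)⁻¹ * u⁻¹ := by
    rw [mul_assoc, h3]
  rw [h4] at hid
  -- 1 = x (σ τ⁻¹ u⁻¹) x⁻¹ u
  have hστi : ∀ d : S, (σ τ)⁻¹ * d = d * (σ τ)⁻¹ := by
    intro d
    have := hστc d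
    calc (σ τ)⁻¹ * d = (σ τ)⁻¹ * (d * σ τ) * (σ τ)⁻¹ := by group
      _ = (σ τ)⁻¹ * (σ τ * d) * (σ τ)⁻¹ := by rw [this]
      _ = d * (σ τ)⁻¹ := by group
  have h5 : x * ((σ τ)⁻¹ * u⁻¹) * x⁻¹ * u = (σ τ)⁻¹ * (x * u⁻¹ * x⁻¹) * u := by
    have := hστi x
    calc x * ((σ τ)⁻¹ * u⁻¹) * x⁻¹ * u = x * (σ τ)⁻¹ * u⁻¹ * x⁻¹ * u := by group
      _ = (σ τ)⁻¹ * x * u⁻¹ * x⁻¹ * u := by rw [← this]
      _ = (σ τ)⁻¹ * (x * u⁻¹ * x⁻¹) * u := by group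
  have h6 : x * u⁻¹ * x⁻¹ = (τ⁻¹ * u)⁻¹ := by
    rw [← hconj]; group
  rw [h5, h6] at hid
  have h7 : (σ τ)⁻¹ * τ = 1 := by
    have h9 := hτc u
    have : (σ τ)⁻¹ * (τ⁻¹ * u)⁻¹ * u = (σ τ)⁻¹ * τ := by
      calc (σ τ)⁻¹ * (τ⁻¹ * u)⁻¹ * u = (σ τ)⁻¹ * (u⁻¹ * (τ * u)) := by group
        _ = (σ τ)⁻¹ * (u⁻¹ * (u * τ)) := by rw [h9]
        _ = (σ τ)⁻¹ * τ := by group
    rw [← this]; exact hid.symm
  have h8 : σ τ = τ := inv_mul_eq_one.1 h7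
  exact hf τ h8

lemma t_mul_right (u z z' : S) (hu : ∀ d : S, ⁅u, z'⁆ * d = d * ⁅u, z'⁆) :
    ⁅u, z * z'⁆ = ⁅u, z⁆ * ⁅u, z'⁆ := by
  have h := hu z
  have e : ⁅u, z * z'⁆ = ⁅u, z⁆ * (z * ⁅u, z'⁆ * z⁻¹) := by
    simp only [commutatorElement_def]; group
  rw [e, ← h]; group

lemma t_mul_left (u u' z : S) (hu : ∀ d : S, ⁅u', z⁆ * d = d * ⁅u', z⁆) :
    ⁅u * u', z⁆ = ⁅u, z⁆ * ⁅u', z⁆ := by
  have h := hu u
  have e : ⁅u * u', z⁆ = u * ⁅u', z⁆ * u⁻¹ * ⁅u, z⁆ := by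
    simp only [commutatorElement_def]; group
  rw [e, ← h]
  have h2 := hu ⁅u, z⁆
  calc ⁅u', z⁆ * u * u⁻¹ * ⁅u, z⁆ = ⁅u', z⁆ * ⁅u, z⁆ := by group
    _ = ⁅u, z⁆ * ⁅u', z⁆ := h2

/-- Multiplicativity of the triple commutator in the first variable. -/
lemma t_first (x z w y : S) : ⁅⁅x * z, w⁆, y⁆ = ⁅⁅z, w⁆, y⁆ * ⁅⁅x, w⁆, y⁆ := by
  -- ⁅x z, w⁆ = e * ⁅z, w⁆ * ⁅x, w⁆, with e = ⁅x, ⁅z, w⁆⁆ central
  set e := ⁅x, ⁅z, w⁆⁆ with he
  have hec : ∀ d : S, e * d = d * e := by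
    intro d
    have h := hcen z w x d
    have h2 : e = ⁅⁅z, w⁆, x⁆⁻¹ := by
      simp only [he, commutatorElement_def]; group
    rw [h2]
    calc ⁅⁅z, w⁆, x⁆⁻¹ * d = ⁅⁅z, w⁆, x⁆⁻¹ * (d * ⁅⁅z, w⁆, x⁆) * ⁅⁅z, w⁆, x⁆⁻¹ := by group
      _ = ⁅⁅z, w⁆, x⁆⁻¹ * (⁅⁅z, w⁆, x⁆ * d) * ⁅⁅z, w⁆, x⁆⁻¹ := by rw [h]
      _ = d * ⁅⁅z, w⁆, x⁆⁻¹ := by group
  have e1 : ⁅x * z, w⁆ = e * (⁅z, w⁆ * ⁅x, w⁆) := by
    simp only [he, commutatorElement_def]; group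
  rw [e1]
  have e2 : ⁅e * (⁅z, w⁆ * ⁅x, w⁆), y⁆ = ⁅⁅z, w⁆ * ⁅x, w⁆, y⁆ := by
    generalize ⁅z, w⁆ * ⁅x, w⁆ = u
    simp only [commutatorElement_def]
    calc e * u * y * (e * u)⁻¹ * y⁻¹ = e * (u * y * u⁻¹) * e⁻¹ * y⁻¹ := by group
      _ = (u * y * u⁻¹) * e * e⁻¹ * y⁻¹ := by rw [hec]
      _ = u * y * u⁻¹ * y⁻¹ := by group
  rw [e2]
  exact t_mul_left σ hσ hf hcen _ _ _ (fun d => hcen x w y d)

/-- Antisymmetry in the outer variables. -/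
lemma t_anti (x w z : S) : ⁅⁅x, w⁆, z⁆ * ⁅⁅z, w⁆, x⁆ = 1 := by
  have h0 := inner_eq_one σ hσ hf hcen (x * z) w
  rw [t_first σ hσ hf hcen] at h0
  rw [t_mul_right σ hσ hf hcen _ x z (fun d => hcen z w z d),
    t_mul_right σ hσ hf hcen _ x z (fun d => hcen x w z d),
    inner_eq_one σ hσ hf hcen z w, inner_eq_one σ hσ hf hcen x w] at h0
  simp only [mul_one, one_mul] at h0
  have := hcen z w x ⁅⁅x, w⁆, z⁆
  rw [this] at h0
  exact h0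

/-- Triple commutators vanish. -/
theorem triple_eq_one (x w z : S) : ⁅⁅x, w⁆, z⁆ = 1 := by
  -- (H): t(σ a, w, b) = σ² t(a, w, σ b)
  have hH : ∀ a b : S, ⁅⁅σ a, w⁆, b⁆ = σ (σ ⁅⁅a, w⁆, σ b⁆) := by
    intro a b
    rw [k5 σ hσ hf a w]
    simp only [commutatorElement_def, map_mul, map_inv, hσ]
  have hA : ∀ a b : S, ⁅⁅a, w⁆, b⁆ = ⁅⁅b, w⁆, a⁆⁻¹ := fun a b =>
    eq_inv_of_mul_eq_one_left (t_anti σ hσ hf hcen a w b)
  -- v = t(x, w, σ y) is fixed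
  have hv : ∀ a b : S, ⁅⁅a, w⁆, σ b⁆ = 1 := by
    intro a b
    apply hf
    have h1 := hH b a
    -- t(σ b, w, a) = σ² t(b, w, σ a)
    have h2 := hH a b
    -- t(σ a, w, b) = σ² t(a, w, σ b)
    rw [hA (σ b) a, hA b (σ a)] at h1
    have h3 : ⁅⁅a, w⁆, σ b⁆ = σ (σ ⁅⁅σ a, w⁆, b⁆) := by
      have := congrArg (fun t => t⁻¹) h1
      simp only [inv_inv, map_inv] at this
      exact this
    rw [h2] at h3
    simp only [hσ] at h3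
    exact h3.symm
  have := hv x (σ (σ z))
  rwa [hσ] at this

end step

/-- The class-two theorem. -/
theorem class_two : ∀ (n : ℕ) (S : Type u) [Group S] [Finite S], Nat.card S = n → IsPGroup 2 S →
    ∀ (σ : S ≃* S), (∀ x, σ (σ (σ x)) = x) → (∀ x, σ x = x → x = 1) →
    ∀ a b c : S, ⁅⁅a, b⁆, c⁆ = 1 := by
  intro n
  induction n using Nat.strong_induction_on with
  | _ n ih =>
  intro S _ _ hn hS σ hσ hf a b c
  classical
  by_cases hnt : Subsingleton S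
  · exact Subsingleton.elim _ _
  rw [not_subsingleton_iff_nontrivial] at hnt
  have : Fact (Nat.Prime 2) := ⟨Nat.prime_two⟩
  have hZ : Nontrivial (Subgroup.center S) := hS.center_nontrivial
  let Z := Subgroup.center S
  have hZi : ∀ x ∈ Z, σ x ∈ Z := by
    intro x hx
    rw [Subgroup.mem_center_iff] at hx ⊢
    intro g
    have := hx (σ (σ g))
    have h2 := congrArg σ this
    simpa only [map_mul, hσ] using h2
  have h3 : ¬ 3 ∣ Nat.card S := by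
    obtain ⟨k, hk⟩ := IsPGroup.iff_card.1 hS
    rw [hk]
    intro h
    have := Nat.Prime.dvd_of_dvd_pow Nat.prime_three h
    omega
  have hlt : Nat.card (S ⧸ Z) < n := by
    have hc := Subgroup.card_mul_index Z
    have hgt : 1 < Nat.card Z := Finite.one_lt_card
    rw [Subgroup.index_eq_card] at hc
    rw [← hn, ← hc]
    have hpos : 0 < Nat.card (S ⧸ Z) := Nat.card_pos
    nlinarith
  let τ : (S ⧸ Z) ≃* (S ⧸ Z) := quoA σ hσ Z hZi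
  have hτ3 : ∀ x, τ (τ (τ x)) = x := by
    intro x
    induction x using QuotientGroup.induction_on with
    | H z =>
      show ((σ (σ (σ z)) : S) : S ⧸ Z) = z
      rw [hσ]
  have hτf : ∀ x, τ x = x → x = 1 := by
    intro x hx
    induction x using QuotientGroup.induction_on with
    | H g =>
      have h1 : g⁻¹ * σ g ∈ Z := (QuotientGroup.eq).1 hx.symm
      obtain ⟨m, hm, hfix⟩ := exists_fixed_in_coset hσ h3 Z hZi g h1
      have h2 := hf _ hfix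
      have h4 : g = m⁻¹ := eq_inv_of_mul_eq_one_left h2
      rw [h4]
      exact (QuotientGroup.eq_one_iff _).2 (Z.inv_mem hm)
  have hcen : ∀ a b c d : S, ⁅⁅a, b⁆, c⁆ * d = d * ⁅⁅a, b⁆, c⁆ := by
    intro a b c d
    have h := ih _ hlt (S ⧸ Z) rfl (hS.to_quotient Z) τ hτ3 hτf (a : S ⧸ Z) b c
    have h2 : (⁅⁅a, b⁆, c⁆ : S) ∈ Z := by
      rw [← QuotientGroup.eq_one_iff]
      simpa only [commutatorElement_def, QuotientGroup.mk_mul, QuotientGroup.mk_inv] using h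
    exact (Subgroup.mem_center_iff.1 h2 d).symm
  exact triple_eq_one σ hσ hf hcen a b c

end Cfsg.Agent.Lib.FpfS3.ClassTwo
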