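import Cfsg.Agent.Lib.ZJ.Main
import Cfsg.Agent.Lib.SFourFree.ClassTwoC
import Cfsg.Agent.Lib.FpfS3.ClassTwo

/-!
# Control of strong fusion by the Thompson subgroup in the groups under consideration, and basic
local lemmas
-/

set_option autoImplicit false
set_option linter.unusedSectionVars false
set_option linter.unusedVariables false

namespace Cfsg.Agent.Lib.FpfS3.Control

open Subgroup Cfsg
open scoped commutatorElement
open Cfsg.Agent.Lib.PLocal.Thompson Cfsg.Agent.Lib.PLocal.ThompsonFunctor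
  Cfsg.Agent.Lib.Core.Basic Cfsg.Agent.Lib.ZJ.Main Cfsg.Agent.Lib.ZJ.Reduction
  Cfsg.Agent.Lib.Transfer.Basic Cfsg.Agent.Lib.SFourFree.ClassTwoC
open Cfsg.Agent.Lib.FpfS3.Basic

universe u

/-- The functor `Q ↦ J_e(Q)`, `e = 2`. -/
def WJ2 (Q : Type u) [Group Q] : Subgroup Q := jOf 2 (⊤ : Subgroup Q)

lemma Wf_WJ2 {G : Type u} [Group G] [Finite G] (P : Subgroup G) (hP : IsPGroup 2 P) :
    Wf WJ2 P = jOf 2 P := by
  have htop : IsPGroup 2 (⊤ : Subgroup P) := IsPGroup.to_subgroup hP _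
  have hker : (⊤ : Subgroup P) ⊓ P.subtype.ker = ⊥ := by
    rw [(MonoidHom.ker_eq_bot_iff _).2 P.subtype_injective, inf_bot_eq]
  have h := (pFunctor_jOf (e := 2) (p := 2) (Or.inr rfl)).map_eq P.subtype (⊤ : Subgroup P) htop hker
  rw [← MonoidHom.range_eq_map, range_subtype] at h
  exact h

lemma isCharP_WJ2 : IsCharPFunctor.{u} 2 WJ2 := by
  constructor
  · intro Q _ _ hQ hnt
    exact (pFunctor_jOf (e := 2) (p := 2) (Or.inr rfl)).ne_bot (⊤ : Subgroup Q)
      (IsPGroup.to_subgroup hQ _) top_ne_bot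
  · intro Q R _ _ _ hQ φ
    rw [WJ2, WJ2, jOf_map_equiv]
    congr 1
    rw [← MonoidHom.range_eq_map]
    exact MonoidHom.range_eq_top.2 φ.surjective

/-- The class of groups of the reduction. -/
def ClassC (X : Type u) [Group X] : Prop :=
  Finite X ∧ ¬ 3 ∣ Nat.card X ∧
    ∀ P : Subgroup X, IsPGroup 2 P → ∀ a ∈ P, ∀ b ∈ P, ∀ c ∈ P, ⁅⁅a, b⁆, c⁆ = 1

lemma not_involves_of_not_three {X : Type u} [Group X] [Finite X] (h : ¬ 3 ∣ Nat.card X) :
    ¬ Involves (Equiv.Perm (Fin 4)) X := by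
  rintro ⟨K, R, hR, ⟨e⟩⟩
  have h1 : Nat.card (K ⧸ R.subgroupOf K) = 24 := by
    rw [Nat.card_congr e.toEquiv, Nat.card_eq_fintype_card, Fintype.card_perm]
    rfl
  have h2 : Nat.card (K ⧸ R.subgroupOf K) ∣ Nat.card K := by
    rw [Subgroup.card_eq_card_quotient_mul_card_subgroup (R.subgroupOf K)]
    exact dvd_mul_right _ _
  have h3 : Nat.card K ∣ Nat.card X := Subgroup.card_subgroup_dvd_card K
  apply h
  rw [h1] at h2
  exact (by norm_num : (3 : ℕ) ∣ 24).trans (h2.trans h3)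

/-- Control of strong fusion by the Thompson subgroup. -/
theorem csf_j {G : Type u} [Group G] [Finite G] (h3 : ¬ 3 ∣ Nat.card G)
    (hcl : ∀ P : Subgroup G, IsPGroup 2 P → ∀ a ∈ P, ∀ b ∈ P, ∀ c ∈ P, ⁅⁅a, b⁆, c⁆ = 1) :
    CSFg WJ2 2 G := by
  refine main isCharP_WJ2 (fun X _ => ClassC X) ?_ ?_ ?_ G ⟨inferInstance, h3, hcl⟩
  · rintro X _ H ⟨hf, h1, h2⟩
    refine ⟨inferInstance, fun h' => h1 (h'.trans (Subgroup.card_subgroup_dvd_card H)), ?_⟩
    intro P hP a ha b hb c hc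
    have hP' : IsPGroup 2 (P.map H.subtype) := hP.map H.subtype
    have := h2 _ hP' a (Subgroup.mem_map_of_mem _ ha) b (Subgroup.mem_map_of_mem _ hb) c
      (Subgroup.mem_map_of_mem _ hc)
    apply Subtype.ext
    simpa [commutatorElement_def] using this
  · rintro X _ N _ ⟨hf, h1, h2⟩
    refine ⟨inferInstance, fun h' => h1 (h'.trans ?_), ?_⟩
    · rw [Subgroup.card_eq_card_quotient_mul_card_subgroup N]
      exact dvd_mul_right _ _
    · intro P hP a ha b hb c hc
      obtain ⟨Q, hQ⟩ := hP.exists_le_sylow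
      have hsurj : Function.Surjective (QuotientGroup.mk' N) := QuotientGroup.mk'_surjective N
      obtain ⟨R, rfl⟩ := Sylow.mapSurjective_surjective hsurj 2 Q
      rw [Sylow.coe_mapSurjective] at hQ
      obtain ⟨a', ha', rfl⟩ := hQ ha
      obtain ⟨b', hb', rfl⟩ := hQ hb
      obtain ⟨c', hc', rfl⟩ := hQ hc
      have := h2 _ R.isPGroup' a' ha' b' hb' c' hc'
      simp only [commutatorElement_def, ← map_mul, ← map_inv] at this ⊢
      rw [this, map_one]
  · rintro X _ _ ⟨hf, h1, h2⟩ hc S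
    rw [Wf_WJ2 _ S.isPGroup']
    have := normalizer_eq_top_of_core' hc (not_involves_of_not_three h1) S
      (h2 _ S.isPGroup')
    exact normalizer_eq_top_iff.1 this

section frat

variable {T : Type u} [Group T] [Finite T]

theorem frat_a (S₀ : Sylow 2 T) {y : T} (hy : y ∈ pPrimePCore 2 T) :
    ∃ o ∈ pPrimeCore 2 T, ∃ s ∈ (S₀ : Subgroup T), y = o * s := by
  classical
  have hsurj : Function.Surjective (QuotientGroup.mk' (pPrimeCore 2 T)) := QuotientGroup.mk'_surjective _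
  have h1 : QuotientGroup.mk' (pPrimeCore 2 T) y ∈ pCore 2 (T ⧸ pPrimeCore 2 T) := hy
  have h2 := pCore_le_sylow (S₀.mapSurjective hsurj) h1
  rw [Sylow.coe_mapSurjective] at h2
  obtain ⟨s, hs, hse⟩ := h2
  have h3 : s⁻¹ * y ∈ pPrimeCore 2 T := QuotientGroup.eq.1 hse
  refine ⟨y * s⁻¹, ?_, s, hs, by group⟩
  have := (inferInstance : (pPrimeCore 2 T).Normal).conj_mem _ h3 s
  convert this using 1
  group

lemma pPrimePCore_normal' : (pPrimePCore 2 T).Normal := by
  unfold pPrimePCore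
  exact Subgroup.Normal.comap inferInstance _

lemma sylow_le_pPrimePCore (hT : ¬ 2 ∣ (pPrimePCore 2 T).index) (S₀ : Sylow 2 T) :
    (S₀ : Subgroup T) ≤ pPrimePCore 2 T := by
  classical
  have hn := pPrimePCore_normal' (T := T)
  intro x hx
  rw [← QuotientGroup.eq_one_iff]
  obtain ⟨k, hk⟩ := (IsPGroup.iff_orderOf.1 S₀.isPGroup') ⟨x, hx⟩
  have h1 : x ^ 2 ^ k = 1 := by
    have : orderOf x = 2 ^ k := by
      rw [← hk]; simp
    rw [← this]; exact pow_orderOf_eq_one x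
  have h2 : ((x : T) : T ⧸ pPrimePCore 2 T) ^ 2 ^ k = 1 := by
    rw [← QuotientGroup.mk_pow, h1]; rfl
  have h3 : ((x : T) : T ⧸ pPrimePCore 2 T) ^ (pPrimePCore 2 T).index = 1 := by
    rw [Subgroup.index_eq_card]
    exact pow_card_eq_one'
  have hcop : Nat.Coprime (2 ^ k) (pPrimePCore 2 T).index := by
    apply Nat.Coprime.pow_left
    exact (Nat.Prime.coprime_iff_not_dvd Nat.prime_two).2 hT
  have := pow_gcd_eq_one.2 ⟨h2, h3⟩
  rwa [hcop.gcd_eq_one, pow_one] at this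

theorem frat_b (hT : ¬ 2 ∣ (pPrimePCore 2 T).index) (S₀ : Sylow 2 T) (x : T) :
    ∃ o ∈ pPrimeCore 2 T, ∃ n ∈ normalizer ((S₀ : Subgroup T) : Set T), x = o * n := by
  classical
  have hn := pPrimePCore_normal' (T := T)
  have h1 := Sylow.normalizer_sup_eq_top' S₀ (sylow_le_pPrimePCore hT S₀)
  have hx : x ∈ normalizer ((S₀ : Subgroup T) : Set T) ⊔ pPrimePCore 2 T := by
    have : x ∈ (⊤ : Subgroup T) := mem_top x
    rwa [← h1] at this
  rw [Subgroup.mem_sup_of_normal_right] at hx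
  obtain ⟨n, hn', y, hy, rfl⟩ := hx
  obtain ⟨o, ho, s, hs, rfl⟩ := frat_a S₀ hy
  refine ⟨n * o * n⁻¹, (inferInstance : (pPrimeCore 2 T).Normal).conj_mem o ho n, n * s,
    mul_mem hn' (le_normalizer hs), by group⟩

end frat

section inv_sylow

variable {G : Type u} [Group G] [Finite G]

/-- An invariant Sylow subgroup. -/
theorem exists_inv_sylow {σ : G ≃* G} (h : Hyp σ) (p : ℕ) [Fact p.Prime] :
    ∃ S : Sylow p G, ∀ x ∈ (S : Subgroup G), σ x ∈ (S : Subgroup G) := by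
  classical
  have hdvd : Nat.card (Sylow p G) ∣ Nat.card G := by
    obtain ⟨S⟩ : Nonempty (Sylow p G) := inferInstance
    refine (Sylow.card_dvd_index S).trans ?_
    exact (S : Subgroup G).index_dvd_card
  obtain ⟨S, hS⟩ := exists_fixed_of_not_dvd (X := Sylow p G) (fun P => (σ : MulAut G) • P)
    (by
      intro P
      simp only [smul_smul]
      have : (σ : MulAut G) * ((σ : MulAut G) * (σ : MulAut G)) = 1 := by
        ext x
        exact h.hσ x
      rw [this, one_smul]) (fun h' => h.h3 (h'.trans hdvd))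
  refine ⟨S, fun x hx => ?_⟩
  have h1 : σ x ∈ (((σ : MulAut G) • S : Sylow p G) : Subgroup G) := by
    rw [Sylow.pointwise_smul_def]
    exact ⟨x, hx, rfl⟩
  rwa [hS] at h1

end inv_sylow

end Cfsg.Agent.Lib.FpfS3.Control
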