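import Cfsg.Agent.Lib.FpfS3.Basic

/-!
# An operator identity in characteristic two and a Shult type lemma

If `s² + s + 1 = 0` in a ring of characteristic two and `s` normalizes a finite group `R` of units of
order prime to six, of prime power order, then `s` centralizes `R`.
-/

set_option autoImplicit false
set_option linter.unusedVariables false

namespace Cfsg.Agent.Lib.FpfS3.Shult

open scoped commutatorElement
open Cfsg.Agent.Lib.FpfS3.Basic

universe u v

section ring

variable {E : Type v} [Ring E]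

/-- The identity behind everything. -/
lemma ring_id (h2 : ∀ x : E, x + x = 0) (s T : E) (hs : s * s = s + 1) :
    T * T + (s * T * (s * s)) * (s * s * T * s) + (s * s * T * s) * (s * T * (s * s))
      = (s * T * (s * s)) * (s * T * (s * s)) + (s * s * T * s) * T + T * (s * s * T * s) := by
  have hU1 : s * T * (s * s) = s * T * s + s * T := by rw [hs]; noncomm_ring
  have hU2 : s * s * T * s = s * T * s + T * s := by rw [hs]; noncomm_ring
  rw [hU1, hU2]
  -- words
  have pp : (s * T * s) * (s * T * s) = s * T * s * T * s + s * T * T * s := by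
    calc (s * T * s) * (s * T * s) = s * T * (s * s) * T * s := by noncomm_ring
      _ = _ := by rw [hs]; noncomm_ring
  have pa : (s * T * s) * (s * T) = s * T * s * T + s * T * T := by
    calc (s * T * s) * (s * T) = s * T * (s * s) * T := by noncomm_ring
      _ = _ := by rw [hs]; noncomm_ring
  have bp : (T * s) * (s * T * s) = T * s * T * s + T * T * s := by
    calc (T * s) * (s * T * s) = T * (s * s) * T * s := by noncomm_ring
      _ = _ := by rw [hs]; noncomm_ring
  have ba : (T * s) * (s * T) = T * s * T + T * T := by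
    calc (T * s) * (s * T) = T * (s * s) * T := by noncomm_ring
      _ = _ := by rw [hs]; noncomm_ring
  have e1 : (s * T * s + s * T) * (s * T * s + T * s)
      = (s * T * s) * (s * T * s) + (s * T * s) * (T * s) + (s * T) * (s * T * s) + (s * T) * (T * s) := by
    noncomm_ring
  have e2 : (s * T * s + T * s) * (s * T * s + s * T)
      = (s * T * s) * (s * T * s) + (s * T * s) * (s * T) + (T * s) * (s * T * s) + (T * s) * (s * T) := by
    noncomm_ring
  have e3 : (s * T * s + s * T) * (s * T * s + s * T)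
      = (s * T * s) * (s * T * s) + (s * T * s) * (s * T) + (s * T) * (s * T * s) + (s * T) * (s * T) := by
    noncomm_ring
  have e4 : (s * T * s + T * s) * T = s * T * s * T + T * s * T := by noncomm_ring
  have e5 : T * (s * T * s + T * s) = T * s * T * s + T * T * s := by noncomm_ring
  rw [e1, e2, e3, e4, e5, pp, pa, bp, ba]
  have w1 : (s * T * s) * (T * s) = s * T * s * T * s := by noncomm_ring
  have w2 : (s * T) * (s * T * s) = s * T * s * T * s := by noncomm_ring
  have w3 : (s * T) * (T * s) = s * T * T * s := by noncomm_ring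
  have w4 : (s * T) * (s * T) = s * T * s * T := by noncomm_ring
  rw [w1, w2, w3, w4]
  generalize s * T * s * T * s = A
  generalize s * T * T * s = B
  generalize s * T * s * T = C
  generalize s * T * T = D
  generalize T * s * T * s = F
  generalize T * T * s = H
  generalize T * s * T = I
  generalize T * T = J
  have hJ := h2 J
  have hA := h2 A
  have hB := h2 B
  have hC := h2 C
  -- difference is 2J + 2A + 2B - 2C
  calc J + (A + B + A + A + B) + (A + B + (C + D) + (F + H) + (I + J))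
      = (A + B + (C + D) + A + C) + (C + I) + (F + H) + (J + J) + (A + A) + (B + B) - (C + C) := by
        abel
    _ = (A + B + (C + D) + A + C) + (C + I) + (F + H) := by
        rw [hJ, hA, hB, hC]; abel

/-- Divisibility of `1 + x ^ k` by `1 + x`. -/
lemma exists_dvd (h2 : ∀ x : E, x + x = 0) (x Y : E) (hx : x * Y = Y * x) (k : ℕ) :
    ∃ C : E, 1 + x ^ k = (1 + x) * C ∧ C * Y = Y * C ∧ C * x = x * C := by
  induction k with
  | zero => exact ⟨0, by simp [h2], by simp, by simp⟩
  | succ k ih =>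
    obtain ⟨C, h1, h3, h4⟩ := ih
    refine ⟨1 + x * C, ?_, ?_, ?_⟩
    · have e1 : (1 + x) * (1 + x * C) = (1 + x) + x * ((1 + x) * C) := by noncomm_ring
      have e2 : (1 + x) + x * (1 + x ^ k) = 1 + (x + x) + x ^ (k + 1) := by
        rw [pow_succ']; noncomm_ring
      rw [e1, ← h1, e2, h2, add_zero]
    · rw [add_mul, mul_add, one_mul, mul_one, mul_assoc, h3, ← mul_assoc, ← mul_assoc, hx]
    · rw [add_mul, mul_add, one_mul, mul_one, mul_assoc, h4]

lemma four_term (h2 : ∀ x : E, x + x = 0) {a b c d n m : E} (h1 : a + n = b + m) (h3 : c + n = d + m) :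
    a + b + c + d = 0 := by
  have e : a + b + c + d = ((a + n) + (b + m)) + ((c + n) + (d + m)) - (n + n) - (m + m) := by abel
  rw [e, h1, h3, h2 (b + m), h2 (d + m), h2 n, h2 m]
  simp

end ring

section main

variable {E : Type v} [Ring E] {r : ℕ} [hr : Fact r.Prime]

lemma eq_one_of_pow {R : Type u} [Group R] [Finite R] (hR : IsPGroup r R) (x : R) {m : ℕ}
    (hm : Nat.Coprime m r) (h : x ^ m = 1) : x = 1 := by
  obtain ⟨k, hk⟩ := hR.exists_card_eq
  have h1 : orderOf x ∣ m := orderOf_dvd_of_pow_eq_one h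
  have h2 : orderOf x ∣ r ^ k := hk ▸ orderOf_dvd_natCard x
  have h3 : Nat.Coprime (orderOf x) (r ^ k) := Nat.Coprime.coprime_dvd_left h1 (Nat.Coprime.pow_right _ hm)
  have h4 : orderOf x = 1 := Nat.Coprime.eq_one_of_dvd h3 h2
  exact orderOf_eq_one_iff.1 h4

/-- The computation for one element: `⁅u, τ u⁆ = 1` and `τ u = u`. -/
theorem core_comp {R : Type u} [Group R] [Finite R] (hr2 : r ≠ 2) (hr3 : r ≠ 3) (hR : IsPGroup r R)
    (h2 : ∀ x : E, x + x = 0)
    (L : R →* E) (hL : Function.Injective L)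
    (u v y n : R) (hy : y = ⁅u, v⁆)
    (hyc : ∀ d : R, y * d = d * y) (hnc : ∀ d : R, n * d = d * n)
    (R1 : L (u * u) + L (u⁻¹ * n) + L (y⁻¹ * (u⁻¹ * n))
      = L (v * v) + L (v⁻¹ * n) + L (y⁻¹ * (v⁻¹ * n))) : v = u := by
  classical
  have hLinv : ∀ a : R, L a * L a⁻¹ = 1 := fun a => by rw [← map_mul, mul_inv_cancel, map_one]
  have hLinv' : ∀ a : R, L a⁻¹ * L a = 1 := fun a => by rw [← map_mul, inv_mul_cancel, map_one]
  -- conjugation by u
  have hψ : ∀ a : R, L u * L a * L u⁻¹ = L (u * a * u⁻¹) := fun a => by simp only [map_mul]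
  have huv : u * v * u⁻¹ = y * v := by
    rw [hy]; simp only [commutatorElement_def]; group
  have hyi : ∀ d : R, y⁻¹ * d = d * y⁻¹ := by
    intro d
    calc y⁻¹ * d = y⁻¹ * (d * y) * y⁻¹ := by group
      _ = y⁻¹ * (y * d) * y⁻¹ := by rw [hyc]
      _ = d * y⁻¹ := by group
  have hni : ∀ d : R, n⁻¹ * d = d * n⁻¹ := by
    intro d
    calc n⁻¹ * d = n⁻¹ * (d * n) * n⁻¹ := by group
      _ = n⁻¹ * (n * d) * n⁻¹ := by rw [hnc]
      _ = d * n⁻¹ := by group
  -- apply conjugation to R1
  have R1c := congrArg (fun x => L u * x * L u⁻¹) R1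
  simp only [mul_add, add_mul, hψ] at R1c
  have g1 : u * (u * u) * u⁻¹ = u * u := by group
  have g2 : u * (u⁻¹ * n) * u⁻¹ = u⁻¹ * n := by
    calc u * (u⁻¹ * n) * u⁻¹ = n * u⁻¹ := by group
      _ = u⁻¹ * n := hnc _
  have g3 : u * (y⁻¹ * (u⁻¹ * n)) * u⁻¹ = y⁻¹ * (u⁻¹ * n) := by
    calc u * (y⁻¹ * (u⁻¹ * n)) * u⁻¹ = (y⁻¹ * u) * (u⁻¹ * n) * u⁻¹ := by
          rw [hyi u]; group
      _ = y⁻¹ * (n * u⁻¹) := by group
      _ = y⁻¹ * (u⁻¹ * n) := by rw [hnc]
  have g4 : u * (v * v) * u⁻¹ = y * y * (v * v) := by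
    calc u * (v * v) * u⁻¹ = (u * v * u⁻¹) * (u * v * u⁻¹) := by group
      _ = (y * v) * (y * v) := by rw [huv]
      _ = y * (v * y) * v := by group
      _ = y * (y * v) * v := by rw [hyc v]
      _ = y * y * (v * v) := by group
  have huvi : u * v⁻¹ * u⁻¹ = y⁻¹ * v⁻¹ := by
    have : u * v⁻¹ * u⁻¹ = (u * v * u⁻¹)⁻¹ := by group
    rw [this, huv]
    calc (y * v)⁻¹ = v⁻¹ * y⁻¹ := by group
      _ = y⁻¹ * v⁻¹ := (hyi _).symm
  have g5 : u * (v⁻¹ * n) * u⁻¹ = y⁻¹ * (v⁻¹ * n) := by
    calc u * (v⁻¹ * n) * u⁻¹ = (u * v⁻¹ * u⁻¹) * (u * n * u⁻¹) := by group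
      _ = (y⁻¹ * v⁻¹) * (u * n * u⁻¹) := by rw [huvi]
      _ = (y⁻¹ * v⁻¹) * (n * u * u⁻¹) := by rw [hnc u]
      _ = y⁻¹ * (v⁻¹ * n) := by group
  have g6 : u * (y⁻¹ * (v⁻¹ * n)) * u⁻¹ = y⁻¹ * (y⁻¹ * (v⁻¹ * n)) := by
    calc u * (y⁻¹ * (v⁻¹ * n)) * u⁻¹ = (u * y⁻¹) * (v⁻¹ * n) * u⁻¹ := by group
      _ = (y⁻¹ * u) * (v⁻¹ * n) * u⁻¹ := by rw [hyi u]
      _ = y⁻¹ * (u * (v⁻¹ * n) * u⁻¹) := by group
      _ = y⁻¹ * (y⁻¹ * (v⁻¹ * n)) := by rw [g5]
  rw [g1, g2, g3, g4, g5, g6] at R1c
  -- combine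
  have R2' : L (v * v) + L (v⁻¹ * n) = L (y * y * (v * v)) + L (y⁻¹ * (y⁻¹ * (v⁻¹ * n))) := by
    have h3 : L (v * v) + L (v⁻¹ * n) + L (y⁻¹ * (v⁻¹ * n))
        = L (y * y * (v * v)) + L (y⁻¹ * (v⁻¹ * n)) + L (y⁻¹ * (y⁻¹ * (v⁻¹ * n))) := by
      rw [← R1, R1c]
    have h4 : L (y * y * (v * v)) + L (y⁻¹ * (v⁻¹ * n)) + L (y⁻¹ * (y⁻¹ * (v⁻¹ * n)))
        = L (y * y * (v * v)) + L (y⁻¹ * (y⁻¹ * (v⁻¹ * n))) + L (y⁻¹ * (v⁻¹ * n)) := by abel
    rw [h4] at h3
    exact add_right_cancel h3
  -- multiply on the right by v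
  set w : R := v * v * v with hw
  have R2 : L w + L n = L (y * y * w) + L (y⁻¹ * y⁻¹ * n) := by
    have h3 := congrArg (fun x => x * L v) R2'
    simp only [add_mul, ← map_mul] at h3
    have e1 : v * v * v = w := rfl
    have e2 : v⁻¹ * n * v = n := by
      calc v⁻¹ * n * v = v⁻¹ * (v * n) := by rw [mul_assoc, hnc v]
        _ = n := by group
    have e3 : y * y * (v * v) * v = y * y * w := by rw [hw]; group
    have e4 : y⁻¹ * (y⁻¹ * (v⁻¹ * n)) * v = y⁻¹ * y⁻¹ * n := by
      calc y⁻¹ * (y⁻¹ * (v⁻¹ * n)) * v = y⁻¹ * y⁻¹ * (v⁻¹ * n * v) := by group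
        _ = y⁻¹ * y⁻¹ * n := by rw [e2]
    rw [e1, e2, e3, e4] at h3
    exact h3
  have huw : u * w * u⁻¹ = y * y * y * w := by
    calc u * w * u⁻¹ = (u * v * u⁻¹) * (u * v * u⁻¹) * (u * v * u⁻¹) := by rw [hw]; group
      _ = (y * v) * (y * v) * (y * v) := by rw [huv]
      _ = y * (v * y) * (v * y) * v := by group
      _ = y * (y * v) * (y * v) * v := by rw [hyc v]
      _ = y * y * (v * y) * v * v := by group
      _ = y * y * (y * v) * v * v := by rw [hyc v]
      _ = y * y * y * w := by rw [hw]; group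
  have R3 : L (y * y * y * w) + L n = L (y * y * (y * y * y * w)) + L (y⁻¹ * y⁻¹ * n) := by
    have h3 := congrArg (fun x => L u * x * L u⁻¹) R2
    simp only [mul_add, add_mul, hψ] at h3
    have e1 : u * n * u⁻¹ = n := by
      calc u * n * u⁻¹ = n * u * u⁻¹ := by rw [hnc u]
        _ = n := by group
    have e2 : u * (y * y * w) * u⁻¹ = y * y * (y * y * y * w) := by
      calc u * (y * y * w) * u⁻¹ = (u * y) * y * w * u⁻¹ := by group
        _ = (y * u) * y * w * u⁻¹ := by rw [hyc u]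
        _ = y * (u * y) * w * u⁻¹ := by group
        _ = y * (y * u) * w * u⁻¹ := by rw [hyc u]
        _ = y * y * (u * w * u⁻¹) := by group
        _ = y * y * (y * y * y * w) := by rw [huw]
    have e3 : u * (y⁻¹ * y⁻¹ * n) * u⁻¹ = y⁻¹ * y⁻¹ * n := by
      calc u * (y⁻¹ * y⁻¹ * n) * u⁻¹ = (u * y⁻¹) * y⁻¹ * n * u⁻¹ := by group
        _ = (y⁻¹ * u) * y⁻¹ * n * u⁻¹ := by rw [hyi u]
        _ = y⁻¹ * (u * y⁻¹) * n * u⁻¹ := by group
        _ = y⁻¹ * (y⁻¹ * u) * n * u⁻¹ := by rw [hyi u]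
        _ = y⁻¹ * y⁻¹ * (u * n * u⁻¹) := by group
        _ = y⁻¹ * y⁻¹ * n := by rw [e1]
    rw [huw, e1, e2, e3] at h3
    exact h3
  have hsum := four_term h2 R2 R3
  -- (1 + Y²)(1 + Y³) = 0
  set Y : E := L y with hY
  have hprod : (1 + Y * Y) * (1 + Y * Y * Y) = 0 := by
    have hw1 : L w * L w⁻¹ = 1 := hLinv w
    have e : (1 + Y * Y) * (1 + Y * Y * Y)
        = (L w + L (y * y * w) + L (y * y * y * w) + L (y * y * (y * y * y * w))) * L w⁻¹ := by
      simp only [map_mul, add_mul, ← hY]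
      simp only [mul_assoc, hw1, mul_one]
      noncomm_ring
    rw [e, hsum, zero_mul]
  -- order considerations
  have hodd : Nat.Coprime (orderOf y) 6 := by
    obtain ⟨k, hk⟩ := hR.exists_card_eq
    have h1 : orderOf y ∣ r ^ k := hk ▸ orderOf_dvd_natCard y
    have hr' : r.Prime := hr.out
    have h3 : Nat.Coprime r 6 := by
      have h4 : Nat.Coprime r 2 := (Nat.coprime_primes hr' Nat.prime_two).2 hr2
      have h5 : Nat.Coprime r 3 := (Nat.coprime_primes hr' Nat.prime_three).2 hr3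
      have : (6 : ℕ) = 2 * 3 := rfl
      rw [this]
      exact Nat.Coprime.mul_right h4 h5
    exact Nat.Coprime.coprime_dvd_left h1 (Nat.Coprime.pow_left _ h3)
  have hr' : r.Prime := hr.out
  have hc2 : Nat.Coprime 2 r := ((Nat.coprime_primes hr' Nat.prime_two).2 hr2).symm
  have hcY2 : Nat.Coprime 2 (orderOf y) := (Nat.Coprime.coprime_dvd_right (by norm_num : 2 ∣ 6) hodd).symm
  have hcY3 : Nat.Coprime 3 (orderOf y) := (Nat.Coprime.coprime_dvd_right (by norm_num : 3 ∣ 6) hodd).symm
  obtain ⟨a, ha⟩ := exists_pow_eq_self_of_coprime hcY2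
  obtain ⟨b, hb⟩ := exists_pow_eq_self_of_coprime hcY3
  have hYa : (Y * Y) ^ a = Y := by
    have := congrArg L ha
    rw [map_pow, map_pow, pow_two] at this
    exact this
  have hYb : (Y * Y * Y) ^ b = Y := by
    have := congrArg L hb
    rw [map_pow, map_pow, pow_succ, pow_two] at this
    exact this
  obtain ⟨C₁, hC₁, hC₁Y, -⟩ := exists_dvd h2 (Y * Y) Y (by rw [mul_assoc]) a
  obtain ⟨C₂, hC₂, hC₂Y, -⟩ := exists_dvd h2 (Y * Y * Y) Y (by simp only [mul_assoc]) b
  rw [hYa] at hC₁
  rw [hYb] at hC₂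
  have hc : C₁ * (1 + Y * Y * Y) = (1 + Y * Y * Y) * C₁ := by
    rw [mul_add, add_mul, mul_one, one_mul]
    congr 1
    calc C₁ * (Y * Y * Y) = (C₁ * Y) * Y * Y := by simp only [mul_assoc]
      _ = Y * C₁ * Y * Y := by rw [hC₁Y]
      _ = Y * (C₁ * Y) * Y := by simp only [mul_assoc]
      _ = Y * (Y * C₁) * Y := by rw [hC₁Y]
      _ = Y * Y * (C₁ * Y) := by simp only [mul_assoc]
      _ = Y * Y * (Y * C₁) := by rw [hC₁Y]
      _ = Y * Y * Y * C₁ := by simp only [mul_assoc]
  have hsq : (1 + Y) * (1 + Y) = 0 := by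
    calc (1 + Y) * (1 + Y) = ((1 + Y * Y) * C₁) * ((1 + Y * Y * Y) * C₂) := by rw [← hC₁, ← hC₂]
      _ = (1 + Y * Y) * (C₁ * (1 + Y * Y * Y)) * C₂ := by noncomm_ring
      _ = (1 + Y * Y) * ((1 + Y * Y * Y) * C₁) * C₂ := by rw [hc]
      _ = ((1 + Y * Y) * (1 + Y * Y * Y)) * C₁ * C₂ := by noncomm_ring
      _ = 0 := by rw [hprod]; simp
  have hYY : Y * Y = 1 := by
    have e : (1 + Y) * (1 + Y) = Y * Y + 1 + (Y + Y) := by noncomm_ring
    rw [e, h2, add_zero] at hsq
    have : Y * Y = Y * Y + 1 + 1 := by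
      rw [add_assoc, h2, add_zero]
    rw [this, hsq, zero_add]
  have hyy : y ^ 2 = 1 := by
    apply hL
    rw [pow_two, map_mul, ← hY, hYY, map_one]
  have hy1 : y = 1 := eq_one_of_pow hR y hc2 hyy
  subst hy1
  have hcomm : u * v = v * u := by
    have : u * v * u⁻¹ = v := by simpa using huv
    calc u * v = u * v * u⁻¹ * u := by group
      _ = v * u := by rw [this]
  have hR1' : L (u * u) = L (v * v) := by
    simp only [inv_one, one_mul] at R1
    have ea : L (u * u) = L (u * u) + L (u⁻¹ * n) + L (u⁻¹ * n) := by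
      rw [add_assoc, h2, add_zero]
    have eb : L (v * v) = L (v * v) + L (v⁻¹ * n) + L (v⁻¹ * n) := by
      rw [add_assoc, h2, add_zero]
    rw [ea, eb, R1]
  have huu := hL hR1'
  have : (u⁻¹ * v) ^ 2 = 1 := by
    have h4 : v * u⁻¹ = u⁻¹ * v := by
      calc v * u⁻¹ = u⁻¹ * (u * v) * u⁻¹ := by group
        _ = u⁻¹ * (v * u) * u⁻¹ := by rw [hcomm]
        _ = u⁻¹ * v := by group
    calc (u⁻¹ * v) ^ 2 = u⁻¹ * (v * u⁻¹) * v := by rw [pow_two]; group
      _ = u⁻¹ * (u⁻¹ * v) * v := by rw [h4]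
      _ = (u * u)⁻¹ * (v * v) := by group
      _ = 1 := by rw [← huu]; group
  have h5 := eq_one_of_pow hR _ hc2 this
  calc v = u * (u⁻¹ * v) := by group
    _ = u := by rw [h5, mul_one]

/-- Shult's lemma in operator form: `s` with `s² + s + 1 = 0` in characteristic two cannot act nontrivially by
conjugation on a group of units of order a power of a prime `≠ 2, 3`. -/
theorem sh_main (hr2 : r ≠ 2) (hr3 : r ≠ 3) (h2 : ∀ x : E, x + x = 0) (s : Eˣ)
    (hs : (s : E) * s = s + 1) :
    ∀ (n : ℕ) (R : Type u) [Group R] [Finite R], Nat.card R = n → IsPGroup r R →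
      ∀ τ : R ≃* R, (∀ x, τ (τ (τ x)) = x) →
      ∀ ρ : R →* Eˣ, Function.Injective ρ → (∀ u, ρ (τ u) = s * ρ u * s⁻¹) → ∀ u, τ u = u := by
  classical
  intro n
  induction n using Nat.strong_induction_on with
  | _ n ih =>
  intro R _ _ hn hR τ hτ ρ hρ hcompat u
  have hr' : r.Prime := hr.out
  -- proper invariant subgroups are fixed
  have hproper : ∀ X : Subgroup R, (∀ x ∈ X, τ x ∈ X) → X ≠ ⊤ → ∀ x ∈ X, τ x = x := by
    intro X hX hXne x hx
    have hcard : Nat.card X < n := by
      rw [← hn]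
      exact lt_of_le_of_ne (Nat.le_of_dvd Nat.card_pos (Subgroup.card_subgroup_dvd_card X))
        (fun h => hXne (Subgroup.eq_top_of_card_eq X h))
    have := ih _ hcard X rfl (hR.to_subgroup X) (resA τ hτ X hX) (fun y => by
        apply Subtype.ext
        exact hτ y.1) (ρ.comp X.subtype)
      (hρ.comp Subtype.val_injective)
      (fun y => by simpa using hcompat y.1) ⟨x, hx⟩
    exact congrArg Subtype.val this
  -- the map g
  obtain ⟨T, hTdef⟩ : ∃ T : Subgroup R, T = Subgroup.closure (Set.range fun v : R => v⁻¹ * τ v) := ⟨_, rfl⟩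
  have hgT : ∀ v : R, v⁻¹ * τ v ∈ T := fun v => by
    rw [hTdef]; exact Subgroup.subset_closure ⟨v, rfl⟩
  have hTinv : ∀ x ∈ T, τ x ∈ T := by
    intro x hx
    rw [hTdef] at hx
    induction hx using Subgroup.closure_induction with
    | mem x hx =>
      obtain ⟨v, rfl⟩ := hx
      simp only [map_mul, map_inv]
      exact hgT _
    | one => simp
    | mul a b _ _ ha hb => rw [map_mul]; exact T.mul_mem ha hb
    | inv a _ ha => rw [map_inv]; exact T.inv_mem ha
  by_cases hT : T = ⊤
  swap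
  · -- fixed `t`
    have ht := hproper T hTinv hT _ (hgT u)
    have h1 : τ u = u * (u⁻¹ * τ u) := by group
    obtain ⟨t, htdef⟩ : ∃ t, t = u⁻¹ * τ u := ⟨_, rfl⟩
    rw [← htdef] at ht h1
    have h3 : t ^ 3 = 1 := by
      have e1 : τ (τ u) = u * t * t := by rw [h1, map_mul, h1, ht]
      have e3 : τ (τ (τ u)) = u * t * t * t := by rw [e1, map_mul, map_mul, h1, ht]
      have e2 : u * t * t * t = u := by
        rw [← e3]; exact hτ u
      have : t ^ 3 = u⁻¹ * (u * t * t * t) := by
        rw [pow_succ, pow_two]; group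
      rw [this, e2]; group
    have ht1 : t = 1 := eq_one_of_pow hR t ((Nat.coprime_primes Nat.prime_three hr').2 (Ne.symm hr3)) h3
    rw [h1, ht1, mul_one]
  -- now `T = ⊤`
  by_cases hnt : Nontrivial R
  swap
  · rw [not_nontrivial_iff_subsingleton] at hnt
    exact Subsingleton.elim _ _
  obtain ⟨D, hDdef⟩ : ∃ D : Subgroup R, D = commutator R := ⟨_, rfl⟩
  have hDne : D ≠ ⊤ := by
    have : Group.IsSolvable R := by
      have := hR.isNilpotent
      infer_instance
    have := Group.IsSolvable.commutator_lt_top_of_nontrivial R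
    rw [hDdef]
    exact this.ne
  have hDinv : ∀ x ∈ D, τ x ∈ D := by
    intro x hx
    rw [hDdef] at hx ⊢
    have hch : (commutator R).Characteristic := inferInstance
    exact Subgroup.characteristic_iff_le_comap.1 hch τ hx
  have hDfix := hproper D hDinv hDne
  have hcmem : ∀ a b : R, ⁅a, b⁆ ∈ D := fun a b => by
    rw [hDdef]
    exact Subgroup.commutator_mem_commutator (Subgroup.mem_top a) (Subgroup.mem_top b)
  -- D is central
  have hDc : ∀ d ∈ D, ∀ v : R, d * v = v * d := by
    intro d hd v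
    have hv : ∀ w : R, (w⁻¹ * τ w) * d = d * (w⁻¹ * τ w) := by
      intro w
      have h1 : τ ⁅d, w⁆ = ⁅d, w⁆ := hDfix _ (by
        rw [hDdef]
        exact Subgroup.commutator_mem_commutator (Subgroup.mem_top d) (Subgroup.mem_top w))
      rw [map_commutatorElement, hDfix d hd] at h1
      simp only [commutatorElement_def] at h1
      have h2 : (τ w)⁻¹ * w * d⁻¹ = d⁻¹ * ((τ w)⁻¹ * w) := by
        have h3 : τ w * d⁻¹ * (τ w)⁻¹ = w * d⁻¹ * w⁻¹ := by
          have := h1
          calc τ w * d⁻¹ * (τ w)⁻¹ = d⁻¹ * (d * τ w * d⁻¹ * (τ w)⁻¹) := by group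
            _ = d⁻¹ * (d * w * d⁻¹ * w⁻¹) := by rw [this]
            _ = _ := by group
        calc (τ w)⁻¹ * w * d⁻¹ = (τ w)⁻¹ * (w * d⁻¹ * w⁻¹) * w := by group
          _ = (τ w)⁻¹ * (τ w * d⁻¹ * (τ w)⁻¹) * w := by rw [h3]
          _ = _ := by group
      calc (w⁻¹ * τ w) * d = (w⁻¹ * τ w) * d * (((τ w)⁻¹ * w * d⁻¹) * d) * (w⁻¹ * τ w) * (1 : R) := by group
        _ = (w⁻¹ * τ w) * d * ((d⁻¹ * ((τ w)⁻¹ * w)) * d) * (w⁻¹ * τ w) * (1 : R) := by rw [h2]
        _ = _ := by group
    have hle : T ≤ Subgroup.centralizer {d} := by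
      rw [hTdef, Subgroup.closure_le]
      rintro _ ⟨w, rfl⟩
      simp only [SetLike.mem_coe, Subgroup.mem_centralizer_iff, Set.mem_singleton_iff, forall_eq]
      exact (hv w).symm
    have hv' : v ∈ Subgroup.centralizer {d} := hle (by rw [hT]; exact Subgroup.mem_top v)
    simp only [Subgroup.mem_centralizer_iff, Set.mem_singleton_iff, forall_eq] at hv'
    exact hv'
  -- the norm
  have hNorm : ∀ v : R, v * τ v * τ (τ v) ∈ D := by
    intro v
    let of : R →* Abelianization R := Abelianization.of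
    let f : R →* Abelianization R := of * (of.comp τ.toMonoidHom) * (of.comp (τ.toMonoidHom.comp τ.toMonoidHom))
    have hf : ∀ w, f w = of w * of (τ w) * of (τ (τ w)) := fun w => rfl
    have hfτ : ∀ w, f (τ w) = f w := by
      intro w
      rw [hf, hf, hτ w]
      exact (mul_rotate _ _ _).symm
    have hfg : T ≤ f.ker := by
      rw [hTdef, Subgroup.closure_le]
      rintro _ ⟨w, rfl⟩
      simp only [SetLike.mem_coe, MonoidHom.mem_ker, map_mul, map_inv]
      rw [hfτ]; simp
    have : f v = 1 := hfg (by rw [hT]; exact Subgroup.mem_top v)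
    rw [hf] at this
    rw [hDdef, ← Abelianization.ker_of, MonoidHom.mem_ker]
    simpa [map_mul] using this
  -- elements
  obtain ⟨v, hvdef⟩ : ∃ v, v = τ u := ⟨_, rfl⟩
  obtain ⟨w, hwdef⟩ : ∃ w, w = τ v := ⟨_, rfl⟩
  obtain ⟨y, hydef⟩ : ∃ y, y = ⁅u, v⁆ := ⟨_, rfl⟩
  obtain ⟨n', hn'def⟩ : ∃ n', n' = u * v * w := ⟨_, rfl⟩
  have hyD : y ∈ D := hydef ▸ hcmem u v
  have hnD : n' ∈ D := by rw [hn'def, hwdef, hvdef]; exact hNorm u
  have hyc : ∀ d, y * d = d * y := hDc y hyD
  have hnc : ∀ d, n' * d = d * n' := hDc n' hnD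
  have hτw : τ w = u := by rw [hwdef, hvdef]; exact hτ u
  have hy1 : ⁅v, w⁆ = y := by
    have := hDfix y hyD
    rw [hydef, map_commutatorElement, ← hvdef, ← hwdef] at this
    rw [hydef]; exact this
  have hy2 : ⁅w, u⁆ = y := by
    have := hDfix y hyD
    rw [← hy1, map_commutatorElement, ← hwdef, hτw, hy1] at this
    exact this
  have hyi : ∀ d : R, y⁻¹ * d = d * y⁻¹ := by
    intro d
    calc y⁻¹ * d = y⁻¹ * (d * y) * y⁻¹ := by group
      _ = y⁻¹ * (y * d) * y⁻¹ := by rw [hyc]
      _ = d * y⁻¹ := by group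
  have a1 : v * w = u⁻¹ * n' := by rw [hn'def]; group
  have a2 : w * v = y⁻¹ * (u⁻¹ * n') := by
    rw [← a1, ← hy1]
    simp only [commutatorElement_def]
    group
  have a3 : w * u = v⁻¹ * n' := by
    have : n' = v * (w * u) := by
      have h1 : u⁻¹ * n' = v * w := a1.symm
      calc n' = u⁻¹ * (u * n') := by group
        _ = u⁻¹ * (n' * u) := by rw [hnc u]
        _ = (u⁻¹ * n') * u := by group
        _ = (v * w) * u := by rw [h1]
        _ = v * (w * u) := by group
    rw [this]; group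
  have a4 : u * w = y⁻¹ * (v⁻¹ * n') := by
    rw [← a3, ← hy2]
    simp only [commutatorElement_def]
    group
  -- the operator identity
  let L : R →* E := (Units.coeHom E).comp ρ
  have hL : Function.Injective L := fun a b hab => hρ (Units.ext hab)
  have hsinv : ((s⁻¹ : Eˣ) : E) = s * s := by
    have h3 : (s : E) * s * s = 1 := by
      rw [hs, add_mul, hs, one_mul]
      have := h2 (s : E)
      calc (s : E) + 1 + s = (s + s) + 1 := by abel
        _ = 1 := by rw [this, zero_add]
    have : (s : E) * (s * s) = 1 := by rw [← mul_assoc, h3]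
    calc ((s⁻¹ : Eˣ) : E) = ((s⁻¹ : Eˣ) : E) * ((s : E) * (s * s)) := by rw [this, mul_one]
      _ = (s : E) * s := by rw [← mul_assoc]; simp
  have hLv : L v = s * L u * (s * s) := by
    show ((ρ v : Eˣ) : E) = _
    rw [hvdef, hcompat]
    simp only [Units.val_mul, hsinv]
    rfl
  have hLw : L w = s * s * L u * s := by
    have h1 : ((ρ w : Eˣ) : E) = s * L v * (s * s) := by
      rw [hwdef, hcompat]
      simp only [Units.val_mul, hsinv]
      rfl
    have h3 : (s : E) * s * s = 1 := by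
      rw [hs, add_mul, hs, one_mul]
      have := h2 (s : E)
      calc (s : E) + 1 + s = (s + s) + 1 := by abel
        _ = 1 := by rw [this, zero_add]
    show ((ρ w : Eˣ) : E) = _
    rw [h1, hLv]
    calc (s : E) * (s * L u * (s * s)) * (s * s)
        = s * s * L u * ((s * s * s) * s) := by noncomm_ring
      _ = _ := by rw [h3, one_mul]
  have hid := ring_id h2 (s : E) (L u) hs
  rw [← hLv, ← hLw] at hid
  have R1 : L (u * u) + L (u⁻¹ * n') + L (y⁻¹ * (u⁻¹ * n'))
      = L (v * v) + L (v⁻¹ * n') + L (y⁻¹ * (v⁻¹ * n')) := by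
    rw [← a2, ← a1, ← a4, ← a3]
    simpa only [map_mul] using hid
  have hfin := core_comp hr2 hr3 hR h2 L hL u v y n' hydef hyc hnc R1
  rw [hvdef] at hfin
  exact hfin

/-- The non-faithful version. -/
theorem sh_range (hr2 : r ≠ 2) (hr3 : r ≠ 3) (h2 : ∀ x : E, x + x = 0) (s : Eˣ)
    (hs : (s : E) * s = s + 1) {P : Type u} [Group P] [Finite P] (hP : IsPGroup r P) (τ : P → P)
    (ρ₀ : P →* Eˣ) (hc : ∀ u, ρ₀ (τ u) = s * ρ₀ u * s⁻¹) (u : P) : ρ₀ (τ u) = ρ₀ u := by
  classical
  have h3 : (s : E) * s * s = 1 := by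
    rw [hs, add_mul, hs, one_mul]
    have := h2 (s : E)
    calc (s : E) + 1 + s = (s + s) + 1 := by abel
      _ = 1 := by rw [this, zero_add]
  have h3u : s * s * s = 1 := Units.ext h3
  let σ : Eˣ ≃* Eˣ := MulAut.conj s
  have hσ : ∀ x : Eˣ, σ x = s * x * s⁻¹ := fun x => rfl
  have hσ3 : ∀ x, σ (σ (σ x)) = x := by
    intro x
    simp only [hσ]
    calc s * (s * (s * x * s⁻¹) * s⁻¹) * s⁻¹ = (s * s * s) * x * (s * s * s)⁻¹ := by group
      _ = x := by rw [h3u]; simp
  let R : Subgroup Eˣ := ρ₀.range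
  have hRinv : ∀ x ∈ R, σ x ∈ R := by
    rintro _ ⟨w, rfl⟩
    exact ⟨τ w, hc w⟩
  have : Finite R := by
    have : Finite (Set.range ρ₀) := Set.finite_range ρ₀
    exact this
  have hR : IsPGroup r R := IsPGroup.of_surjective hP ρ₀.rangeRestrict ρ₀.rangeRestrict_surjective
  have key := sh_main hr2 hr3 h2 s hs (Nat.card R) R rfl hR (resA σ hσ3 R hRinv)
    (fun x => Subtype.ext (hσ3 x.1)) R.subtype R.subtype_injective (fun _ => rfl) ⟨ρ₀ u, u, rfl⟩
  have key2 : σ (ρ₀ u) = ρ₀ u := congrArg Subtype.val key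
  rw [hc, ← hσ, key2]

end main

section operators

variable {A : Type v} [CommGroup A]

/-- Automorphisms of an abelian group as units of its endomorphism ring. -/
def toEnd : MulAut A →* (AddMonoid.End (Additive A))ˣ where
  toFun := fun α =>
    { val := MonoidHom.toAdditive α.toMonoidHom
      inv := MonoidHom.toAdditive α.symm.toMonoidHom
      val_inv := by
        ext x
        show Additive.ofMul (α (α.symm x.toMul)) = x
        simp
      inv_val := by
        ext x
        show Additive.ofMul (α.symm (α x.toMul)) = x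
        simp }
  map_one' := by
    ext x
    rfl
  map_mul' := by
    intro a b
    ext x
    rfl

lemma toEnd_apply (α : MulAut A) (a : A) :
    ((toEnd α : (AddMonoid.End (Additive A))ˣ) : AddMonoid.End (Additive A)) (Additive.ofMul a)
      = Additive.ofMul (α a) := rfl

end operators

section shv

variable {r : ℕ} [hr : Fact r.Prime] {P : Type u} [Group P] [Finite P]

/-- Shult's lemma on elementary abelian two-groups. -/
theorem shV0 {A : Type v} [CommGroup A] [Finite A] (hA : ∀ x : A, x * x = 1) (θ : A ≃* A)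
    (hθ : ∀ x, θ (θ (θ x)) = x) (hfree : ∀ x, θ x = x → x = 1) (hr2 : r ≠ 2) (hr3 : r ≠ 3)
    (hP : IsPGroup r P) (τ : P → P) (act : P →* MulAut A)
    (hc : ∀ u x, act (τ u) (θ x) = θ (act u x)) (u : P) (x : A) : act (τ u) x = act u x := by
  classical
  obtain ⟨s, hsdef⟩ : ∃ s : (AddMonoid.End (Additive A))ˣ, s = toEnd θ := ⟨_, rfl⟩
  have hsv : ∀ a : A, (s : AddMonoid.End (Additive A)) (Additive.ofMul a) = Additive.ofMul (θ a) := by
    intro a; rw [hsdef]; exact toEnd_apply θ a
  have h2 : ∀ x : AddMonoid.End (Additive A), x + x = 0 := by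
    intro f
    ext v
    show f v + f v = 0
    exact hA (f v).toMul
  have hab : ∀ a : A, θ (θ a) = θ a * a := by
    intro a
    have hb : θ (θ a) * (θ a * a) = 1 := by
      apply hfree
      rw [map_mul, map_mul, hθ a]
      simp only [mul_comm, mul_left_comm]
    have hinv : ∀ x : A, x⁻¹ = x := fun x => inv_eq_of_mul_eq_one_left (hA x)
    calc θ (θ a) = (θ a * a)⁻¹ := eq_inv_of_mul_eq_one_left hb
      _ = _ := hinv _
  have hs : (s : AddMonoid.End (Additive A)) * s = s + 1 := by
    ext v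
    show (s : AddMonoid.End (Additive A)) ((s : AddMonoid.End (Additive A)) v) = (s : AddMonoid.End (Additive A)) v + v
    have hv : ∀ w : Additive A, (s : AddMonoid.End (Additive A)) w = Additive.ofMul (θ w.toMul) :=
      fun w => hsv w.toMul
    rw [hv, hv]
    show Additive.ofMul (θ (θ v.toMul)) = Additive.ofMul (θ v.toMul) + v
    rw [hab]
    rfl
  have hAut : ∀ u : P, act (τ u) = θ * act u * θ⁻¹ := by
    intro w
    ext y
    have := hc w (θ.symm y)
    rw [MulEquiv.apply_symm_apply] at this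
    exact this
  have key := sh_range hr2 hr3 h2 s hs hP τ (toEnd.comp act) (by
    intro w
    simp only [MonoidHom.comp_apply]
    rw [hAut, map_mul, map_mul, map_inv, ← hsdef]) u
  have k2 : ((toEnd (act (τ u)) : (AddMonoid.End (Additive A))ˣ) : AddMonoid.End (Additive A))
      (Additive.ofMul x) = ((toEnd (act u) : (AddMonoid.End (Additive A))ˣ) : AddMonoid.End (Additive A))
      (Additive.ofMul x) := by
    simp only [MonoidHom.comp_apply] at key
    rw [key]
  rw [toEnd_apply, toEnd_apply] at k2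
  exact Additive.ofMul.injective k2

/-- Shult's lemma on elementary abelian two-groups, with the group structure given only as a group. -/
theorem shV {A : Type v} [Group A] [Finite A] (hA : ∀ x : A, x * x = 1) (θ : A ≃* A)
    (hθ : ∀ x, θ (θ (θ x)) = x) (hfree : ∀ x, θ x = x → x = 1) (hr2 : r ≠ 2) (hr3 : r ≠ 3)
    (hP : IsPGroup r P) (τ : P → P) (act : P →* MulAut A)
    (hc : ∀ u x, act (τ u) (θ x) = θ (act u x)) (u : P) (x : A) : act (τ u) x = act u x := by
  have hinv : ∀ x : A, x⁻¹ = x := fun x => inv_eq_of_mul_eq_one_left (hA x)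
  have hAc : ∀ x y : A, x * y = y * x := by
    intro a b
    calc a * b = (a * b)⁻¹ := (hinv _).symm
      _ = b⁻¹ * a⁻¹ := mul_inv_rev _ _
      _ = b * a := by rw [hinv, hinv]
  letI inst : CommGroup A := { (inferInstance : Group A) with mul_comm := hAc }
  exact shV0 hA θ hθ hfree hr2 hr3 hP τ act hc u x

end shv

section filt

variable (Q : Type v) [Group Q]

/-- The subgroup generated by squares. -/
def sqSub : Subgroup Q := Subgroup.closure (Set.range fun x : Q => x * x)

variable {Q}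

lemma mul_self_mem_sqSub (x : Q) : x * x ∈ sqSub Q := Subgroup.subset_closure ⟨x, rfl⟩

lemma sqSub_aut (f : Q ≃* Q) {x : Q} (hx : x ∈ sqSub Q) : f x ∈ sqSub Q := by
  unfold sqSub at hx
  induction hx using Subgroup.closure_induction with
  | mem x hx =>
    obtain ⟨v, rfl⟩ := hx
    simp only [map_mul]
    exact mul_self_mem_sqSub _
  | one => simpa using (sqSub Q).one_mem
  | mul a b _ _ ha hb => rw [map_mul]; exact (sqSub Q).mul_mem ha hb
  | inv a _ ha => rw [map_inv]; exact (sqSub Q).inv_mem ha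

instance sqSub_normal : (sqSub Q).Normal := ⟨fun n hn g => sqSub_aut (MulAut.conj g) hn⟩

lemma sqSub_ne_top [Finite Q] [Nontrivial Q] (h : IsPGroup 2 Q) : sqSub Q ≠ ⊤ := by
  classical
  intro htop
  have hsol : Group.IsSolvable Q := by
    have := h.isNilpotent
    infer_instance
  have hcomm := Group.IsSolvable.commutator_lt_top_of_nontrivial Q
  let of : Q →* Abelianization Q := Abelianization.of
  have hof : Function.Surjective of := QuotientGroup.mk_surjective
  let g : Abelianization Q →* Abelianization Q := powMonoidHom 2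
  have hle : sqSub Q ≤ (g.range).comap of := by
    unfold sqSub
    rw [Subgroup.closure_le]
    rintro _ ⟨x, rfl⟩
    refine ⟨of x, ?_⟩
    simp [g, pow_two]
  have hg : Function.Surjective g := by
    intro a
    obtain ⟨x, rfl⟩ := hof a
    have : x ∈ sqSub Q := by rw [htop]; exact Subgroup.mem_top x
    exact hle this
  have hgi : Function.Injective g := Finite.injective_iff_surjective.2 hg
  have hAb : IsPGroup 2 (Abelianization Q) := IsPGroup.of_surjective h of hof
  obtain ⟨k, hk⟩ := hAb.exists_card_eq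
  have hk0 : k ≠ 0 := by
    rintro rfl
    rw [pow_zero] at hk
    have h1 : ∀ x : Q, x ∈ commutator Q := by
      intro x
      rw [← Abelianization.ker_of, MonoidHom.mem_ker]
      have := (Nat.card_eq_one_iff_unique.1 hk).1
      exact Subsingleton.elim _ _
    exact hcomm.ne (Subgroup.eq_top_iff' _ |>.2 h1)
  have h2d : 2 ∣ Nat.card (Abelianization Q) := by
    rw [hk]; exact dvd_pow_self 2 hk0
  obtain ⟨a, ha⟩ := exists_prime_orderOf_dvd_card' 2 h2d
  have : a = 1 := by
    apply hgi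
    show a ^ 2 = 1 ^ 2
    rw [one_pow, ← ha]
    exact pow_orderOf_eq_one a
  rw [this, orderOf_one] at ha
  norm_num at ha

variable (N : Subgroup Q) (hN : ∀ f : Q ≃* Q, ∀ x ∈ N, f x ∈ N)

/-- Restriction of automorphisms to a characteristic subgroup. -/
def resHom : MulAut Q →* MulAut N where
  toFun f :=
    { toFun := fun x => ⟨f x, hN f _ x.2⟩
      invFun := fun x => ⟨f.symm x, hN f.symm _ x.2⟩
      left_inv := fun x => Subtype.ext (by simp)
      right_inv := fun x => Subtype.ext (by simp)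
      map_mul' := fun x y => Subtype.ext (map_mul f _ _) }
  map_one' := by
    ext x
    rfl
  map_mul' := by
    intro a b
    ext x
    rfl

lemma resHom_apply (f : MulAut Q) (x : N) : ((resHom N hN f x : N) : Q) = f x := rfl

variable [N.Normal]

/-- Induced automorphisms on the quotient by a characteristic subgroup. -/
def quoHom : MulAut Q →* MulAut (Q ⧸ N) where
  toFun f :=
    { toFun := QuotientGroup.map N N f.toMonoidHom (fun x hx => hN f _ hx)
      invFun := QuotientGroup.map N N f.symm.toMonoidHom (fun x hx => hN f.symm _ hx)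
      left_inv := by
        intro q
        induction q using QuotientGroup.induction_on with
        | H z => simp
      right_inv := by
        intro q
        induction q using QuotientGroup.induction_on with
        | H z => simp
      map_mul' := map_mul _ }
  map_one' := by
    ext q
    induction q using QuotientGroup.induction_on with
    | H z => rfl
  map_mul' := by
    intro a b
    ext q
    induction q using QuotientGroup.induction_on with
    | H z => rfl

lemma quoHom_mk (f : MulAut Q) (x : Q) :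
    quoHom N hN f (x : Q ⧸ N) = ((f x : Q) : Q ⧸ N) := rfl

end filt

section sht

variable {r : ℕ} [hr : Fact r.Prime] {P : Type u} [Group P] [Finite P]

/-- Shult's lemma on two-groups. -/
theorem shT (hr2 : r ≠ 2) (hr3 : r ≠ 3) (hP : IsPGroup r P) (τ : P → P) :
    ∀ (n : ℕ) (Q : Type v) [Group Q] [Finite Q], Nat.card Q = n → IsPGroup 2 Q →
      ∀ θ : Q ≃* Q, (∀ x, θ (θ (θ x)) = x) → (∀ x, θ x = x → x = 1) →
      ∀ act : P →* MulAut Q, (∀ u x, act (τ u) (θ x) = θ (act u x)) →
      ∀ u x, act (τ u) x = act u x := by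
  classical
  intro n
  induction n using Nat.strong_induction_on with
  | _ n ih =>
  intro Q _ _ hn hQ θ hθ hfree act hc u x
  have hr' : r.Prime := hr.out
  by_cases hnt : Nontrivial Q
  swap
  · rw [not_nontrivial_iff_subsingleton] at hnt
    exact Subsingleton.elim _ _
  obtain ⟨D, hDdef⟩ : ∃ D : Subgroup Q, D = sqSub Q := ⟨_, rfl⟩
  have hD : ∀ f : Q ≃* Q, ∀ x ∈ D, f x ∈ D := by
    intro f y hy
    rw [hDdef] at hy ⊢
    exact sqSub_aut f hy
  have hDn : D.Normal := by rw [hDdef]; infer_instance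
  have hDne : D ≠ ⊤ := by rw [hDdef]; exact sqSub_ne_top hQ
  have h3 : ¬ 3 ∣ Nat.card Q := by
    obtain ⟨k, hk⟩ := hQ.exists_card_eq
    rw [hk]
    intro h
    have := (Nat.Prime.dvd_of_dvd_pow Nat.prime_three h)
    omega
  have hcard : Nat.card D < n := by
    rw [← hn]
    exact lt_of_le_of_ne (Nat.le_of_dvd Nat.card_pos (Subgroup.card_subgroup_dvd_card D))
      (fun h => hDne (Subgroup.eq_top_of_card_eq D h))
  -- on D
  have onD : ∀ w : P, ∀ d ∈ D, act (τ w) d = act w d := by
    intro w d hd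
    have := ih _ hcard D rfl (hQ.to_subgroup D) (resA θ hθ D (hD θ)) (fun y => Subtype.ext (hθ y.1))
      (fun y hy => Subtype.ext (hfree y.1 (congrArg Subtype.val hy)))
      ((resHom D hD).comp act) (fun w y => Subtype.ext (hc w y.1)) w ⟨d, hd⟩
    exact congrArg Subtype.val this
  -- on the quotient
  have onQ : ∀ w : P, ∀ q : Q ⧸ D, quoHom D hD (act (τ w)) q = quoHom D hD (act w) q := by
    intro w q
    refine shV (A := Q ⧸ D) ?_ (quoA θ hθ D (hD θ)) ?_ ?_ hr2 hr3 hP τ ((quoHom D hD).comp act) ?_ w q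
    · intro y
      induction y using QuotientGroup.induction_on with
      | H z =>
        rw [← QuotientGroup.mk_mul, QuotientGroup.eq_one_iff, hDdef]
        exact mul_self_mem_sqSub z
    · intro y
      induction y using QuotientGroup.induction_on with
      | H z => simp [hθ z]
    · intro y hy
      induction y using QuotientGroup.induction_on with
      | H z =>
        rw [quoA_mk, QuotientGroup.eq] at hy
        have hy' : z⁻¹ * θ z ∈ D := by
          have := D.inv_mem hy
          simpa using this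
        obtain ⟨m, hm, hm2⟩ := exists_fixed_in_coset hθ h3 D (hD θ) z hy'
        have := hfree _ hm2
        have hz : z = m⁻¹ := by
          rw [eq_inv_iff_mul_eq_one]; exact this
        rw [QuotientGroup.eq_one_iff, hz]
        exact D.inv_mem hm
    · intro w y
      induction y using QuotientGroup.induction_on with
      | H z =>
        show quoHom D hD (act (τ w)) (quoA θ hθ D (hD θ) (z : Q ⧸ D))
          = quoA θ hθ D (hD θ) (quoHom D hD (act w) (z : Q ⧸ D))
        rw [quoA_mk, quoHom_mk, quoHom_mk, quoA_mk, hc]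
  -- assemble
  obtain ⟨f, hfdef⟩ : ∃ f : MulAut Q, f = act (τ u * u⁻¹) := ⟨_, rfl⟩
  have hfapp : ∀ y, f y = act (τ u) ((act u)⁻¹ y) := by
    intro y
    rw [hfdef, map_mul, map_inv]
    rfl
  have hfD : ∀ d ∈ D, f d = d := by
    intro d hd
    have h1 : (act u)⁻¹ d ∈ D := hD _ _ hd
    rw [hfapp, onD u _ h1]
    show act u ((act u).symm d) = d
    simp
  have hfq : ∀ y, y⁻¹ * f y ∈ D := by
    intro y
    have h1 := onQ u (((act u)⁻¹ y : Q) : Q ⧸ D)
    rw [quoHom_mk, quoHom_mk] at h1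
    have e : act u ((act u)⁻¹ y) = y := by
      show act u ((act u).symm y) = y
      simp
    rw [e, ← hfapp] at h1
    exact QuotientGroup.eq.1 h1.symm
  have hpow : ∀ (k : ℕ) (y : Q), (f ^ k) y = y * (y⁻¹ * f y) ^ k := by
    intro k y
    induction k with
    | zero => simp
    | succ k ih' =>
      have e1 : (f ^ (k + 1)) y = f ((f ^ k) y) := by
        rw [pow_succ']; rfl
      rw [e1, ih', map_mul, map_pow, hfD _ (hfq y)]
      calc f y * (y⁻¹ * f y) ^ k = y * (y⁻¹ * f y) * (y⁻¹ * f y) ^ k := by group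
        _ = y * (y⁻¹ * f y) ^ (k + 1) := by rw [pow_succ', mul_assoc]
  have hfid : ∀ y, f y = y := by
    intro y
    have h1 := hpow (Nat.card P) y
    have h2 : f ^ Nat.card P = 1 := by
      rw [hfdef, ← map_pow, pow_card_eq_one', map_one]
    rw [h2] at h1
    have h3' : (y⁻¹ * f y) ^ Nat.card P = 1 := by
      have e : (1 : MulAut Q) y = y := rfl
      rw [e] at h1
      exact (mul_eq_left.1 h1.symm)
    have hcop : Nat.Coprime (Nat.card P) 2 := by
      obtain ⟨k, hk⟩ := hP.exists_card_eq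
      rw [hk]
      exact Nat.Coprime.pow_left _ ((Nat.coprime_primes hr' Nat.prime_two).2 hr2)
    have h4 := eq_one_of_pow hQ _ hcop h3'
    exact (inv_mul_eq_one.1 h4).symm
  have e2 := hfid (act u x)
  rw [hfapp] at e2
  have e3 : (act u)⁻¹ (act u x) = x := by
    show (act u).symm (act u x) = x
    simp
  rw [e3] at e2
  exact e2

end sht

section claim

variable {G : Type u} [Group G] [Finite G]

/-- The conjugation action of a subgroup on a subgroup normalized by it. -/
def conjAct (P Q₀ : Subgroup G) (hN : ∀ u ∈ P, ∀ x ∈ Q₀, u * x * u⁻¹ ∈ Q₀) : P →* MulAut Q₀ where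
  toFun u :=
    { toFun := fun x => ⟨u * x * (u : G)⁻¹, hN u u.2 x x.2⟩
      invFun := fun x => ⟨(u : G)⁻¹ * x * u, by
        have := hN _ (P.inv_mem u.2) x x.2
        simpa using this⟩
      left_inv := fun x => Subtype.ext (by simp [mul_assoc])
      right_inv := fun x => Subtype.ext (by simp [mul_assoc])
      map_mul' := fun x y => Subtype.ext (by simp [mul_assoc]) }
  map_one' := by
    ext x
    simp
  map_mul' := by
    intro a b
    ext x
    simp [mul_assoc]

lemma conjAct_apply (P Q₀ : Subgroup G) (hN : ∀ u ∈ P, ∀ x ∈ Q₀, u * x * u⁻¹ ∈ Q₀) (u : P) (x : Q₀) :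
    ((conjAct P Q₀ hN u x : Q₀) : G) = u * x * (u : G)⁻¹ := rfl

/-- A `σ`-invariant `r`-subgroup acting faithfully on a `σ`-invariant two-subgroup is fixed by `σ`. -/
theorem claim {σ : G ≃* G} (h : Hyp σ) {r : ℕ} [hr : Fact r.Prime] (hr2 : r ≠ 2) (hr3 : r ≠ 3)
    (P Q₀ : Subgroup G) (hP : IsPGroup r P) (hQ : IsPGroup 2 Q₀)
    (hPσ : ∀ x ∈ P, σ x ∈ P) (hQσ : ∀ x ∈ Q₀, σ x ∈ Q₀)
    (hN : ∀ u ∈ P, ∀ x ∈ Q₀, u * x * u⁻¹ ∈ Q₀)
    (hC : ∀ u ∈ P, (∀ x ∈ Q₀, u * x = x * u) → u = 1) : ∀ u ∈ P, σ u = u := by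
  classical
  intro u hu
  have key := shT hr2 hr3 hP (fun w : P => (⟨σ w, hPσ w w.2⟩ : P)) (Nat.card Q₀) Q₀ rfl hQ
    (resA σ h.hσ Q₀ hQσ) (fun y => Subtype.ext (h.hσ y.1))
    (fun y hy => by
      apply Subtype.ext
      have h1 : σ y.1 = y.1 := congrArg Subtype.val hy
      obtain ⟨k, hk⟩ := (IsPGroup.iff_orderOf.1 hQ) y
      refine pow_two_eq_one_of_fixed h h1 ⟨k, ?_⟩
      have := congrArg Subtype.val (show (y ^ 2 ^ k) = 1 by rw [← hk, pow_orderOf_eq_one])
      simpa using this)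
    (conjAct P Q₀ hN)
    (fun w x => by
      apply Subtype.ext
      simp only [conjAct_apply, coe_resA, map_mul, map_inv])
    ⟨u, hu⟩
  have hu1 : (σ u * u⁻¹ : G) = 1 := by
    apply hC _ (P.mul_mem (hPσ u hu) (P.inv_mem hu))
    intro x hx
    have := key ⟨u⁻¹ * x * u, by
      have := hN _ (P.inv_mem hu) x hx
      simpa using this⟩
    have h2 := congrArg Subtype.val this
    simp only [conjAct_apply] at h2
    have h3 : u * (u⁻¹ * x * u) * u⁻¹ = x := by group
    rw [h3] at h2
    calc σ u * u⁻¹ * x = (σ u * (u⁻¹ * x * u) * (σ u)⁻¹) * (σ u * u⁻¹) := by group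
      _ = x * (σ u * u⁻¹) := by rw [h2]
  exact mul_inv_eq_one.1 hu1

end claim

end Cfsg.Agent.Lib.FpfS3.Shult
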