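import Cfsg.Agent.Lib.FpfS3.Control
import Cfsg.Agent.Lib.FpfS3.Shult
import Cfsg.Agent.Lib.Signal.BalanceFor
import Cfsg.Agent.Lib.Signal.Basic
import Cfsg.Agent.Lib.Core.PSolvable2
import Cfsg.Agent.S0215
import Cfsg.Agent.S1279
import Cfsg.Agent.S0217

/-!
# Local analysis in a minimal counterexample with `O(G) = O₂(G) = 1`
-/

set_option autoImplicit false
set_option linter.unusedSectionVars false
set_option linter.unusedVariables false

namespace Cfsg.Agent.Lib.FpfS3.Local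

open Subgroup Cfsg
open scoped commutatorElement
open Cfsg.Agent.Lib.PLocal.Thompson Cfsg.Agent.Lib.PLocal.ThompsonFunctor
  Cfsg.Agent.Lib.Core.Basic Cfsg.Agent.Lib.ZJ.Main Cfsg.Agent.Lib.ZJ.Reduction
  Cfsg.Agent.Lib.Core.PSolvable2
open Cfsg.Agent.Lib.FpfS3.Basic Cfsg.Agent.Lib.FpfS3.Control

universe u

section generic

variable {G : Type u} [Group G] [Finite G]

/-- The conclusion. -/
def Concl {G : Type u} [Group G] (σ : G ≃* G) : Prop :=
  Group.IsSolvable G ∧ ¬ 2 ∣ (pPrimePCore 2 G).index ∧ pPrimePCore 2 G ⊔ fixSub σ = ⊤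

lemma mem_norm_of_conj_le {S : Subgroup G} {g : G} (h : ∀ x ∈ S, g * x * g⁻¹ ∈ S) :
    g ∈ normalizer (S : Set G) := by
  apply mem_NN_of_cj_le
  intro x hx
  rw [mem_cj] at hx
  have := h _ hx
  have e : g * (g⁻¹ * x * g) * g⁻¹ = x := by group
  rwa [e] at this

lemma elt_two_odd {T : Type u} [Group T] [Finite T] {t : T} (ho : t ∈ pPrimeCore 2 T) {k : ℕ}
    (hk : t ^ 2 ^ k = 1) : t = 1 := by
  have h1 := orderOf_coprime_of_mem_pPrimeCore ho
  have h2 : orderOf t ∣ 2 ^ k := orderOf_dvd_of_pow_eq_one hk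
  have h3 : Nat.Coprime (orderOf t) (2 ^ k) := Nat.Coprime.pow_right _ h1
  exact orderOf_eq_one_iff.1 (Nat.Coprime.eq_one_of_dvd h3 h2)

lemma comm_of_core {T : Type u} [Group T] [Finite T] {S₀ : Subgroup T} (hS₀ : IsPGroup 2 S₀)
    {o b : T} (ho : o ∈ pPrimeCore 2 T) (hb : b ∈ S₀) (hob : o * b * o⁻¹ ∈ S₀) : o * b = b * o := by
  have h1 : o * b * o⁻¹ * b⁻¹ ∈ S₀ := S₀.mul_mem hob (S₀.inv_mem hb)
  have h2 : o * b * o⁻¹ * b⁻¹ ∈ pPrimeCore 2 T := by
    have h3 := (inferInstance : (pPrimeCore 2 T).Normal).conj_mem _ (inv_mem ho) b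
    have h4 := mul_mem ho h3
    convert h4 using 1
    group
  obtain ⟨k, hk⟩ := (IsPGroup.iff_orderOf.1 hS₀) ⟨_, h1⟩
  have h5 : (o * b * o⁻¹ * b⁻¹) ^ 2 ^ k = 1 := by
    have := congrArg Subtype.val (show ((⟨_, h1⟩ : S₀) ^ 2 ^ k) = 1 by rw [← hk, pow_orderOf_eq_one])
    simpa using this
  have h6 := elt_two_odd h2 h5
  calc o * b = (o * b * o⁻¹ * b⁻¹) * (b * o) := by group
    _ = b * o := by rw [h6, one_mul]

/-- The subgroup `Ω₁(Z(S))`. -/
def omZ (S : Subgroup G) : Subgroup G where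
  carrier := {a | a ∈ S ∧ (∀ s ∈ S, a * s = s * a) ∧ a * a = 1}
  mul_mem' := by
    rintro a b ⟨ha, ha2, ha3⟩ ⟨hb, hb2, hb3⟩
    refine ⟨S.mul_mem ha hb, fun s hs => ?_, ?_⟩
    · rw [mul_assoc, hb2 s hs, ← mul_assoc, ha2 s hs, mul_assoc]
    · calc a * b * (a * b) = a * (b * a) * b := by group
        _ = a * (a * b) * b := by rw [ha2 b hb]
        _ = (a * a) * (b * b) := by group
        _ = 1 := by rw [ha3, hb3, one_mul]
  one_mem' := ⟨S.one_mem, by simp, by simp⟩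
  inv_mem' := by
    rintro a ⟨ha, ha2, ha3⟩
    have : a⁻¹ = a := inv_eq_of_mul_eq_one_left ha3
    rw [Set.mem_setOf_eq, this]
    exact ⟨ha, ha2, ha3⟩

lemma mem_omZ {S : Subgroup G} {a : G} :
    a ∈ omZ S ↔ a ∈ S ∧ (∀ s ∈ S, a * s = s * a) ∧ a * a = 1 := Iff.rfl

lemma omZ_comm {S : Subgroup G} {a b : G} (ha : a ∈ omZ S) (hb : b ∈ omZ S) : a * b = b * a :=
  ha.2.1 b hb.1

lemma omZ_norm {S : Subgroup G} {a n : G} (ha : a ∈ omZ S) (hn : n ∈ normalizer (S : Set G)) :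
    n * a * n⁻¹ ∈ omZ S := by
  refine ⟨(mem_normalizer_iff.1 hn a).1 ha.1, fun s hs => ?_, ?_⟩
  · have h1 : n⁻¹ * s * n ∈ S := by
      have := (mem_normalizer_iff.1 hn (n⁻¹ * s * n)).2
      apply this
      convert hs using 1
      group
    have h2 := ha.2.1 _ h1
    calc n * a * n⁻¹ * s = n * (a * (n⁻¹ * s * n)) * n⁻¹ := by group
      _ = n * ((n⁻¹ * s * n) * a) * n⁻¹ := by rw [h2]
      _ = s * (n * a * n⁻¹) := by group
  · calc n * a * n⁻¹ * (n * a * n⁻¹) = n * (a * a) * n⁻¹ := by group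
      _ = 1 := by rw [ha.2.2]; group

/-- A fixed element `c` conjugating `a` to `σ a` in fact centralizes `a`. -/
lemma fixed_conj {σ : G ≃* G} (h : Hyp σ) {c a : G} (hc : σ c = c) (hca : c * a * c⁻¹ = σ a) :
    σ a = a := by
  have h1 : c * σ a * c⁻¹ = σ (σ a) := by
    have := congrArg σ hca
    rwa [map_mul, map_mul, map_inv, hc] at this
  have h2 : c * σ (σ a) * c⁻¹ = a := by
    have := congrArg σ h1
    rwa [map_mul, map_mul, map_inv, hc, h.hσ] at this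
  have h3 : (c ^ 3) * a = a * (c ^ 3) := by
    have e : c ^ 3 * a * (c ^ 3)⁻¹ = a := by
      calc c ^ 3 * a * (c ^ 3)⁻¹ = c * (c * (c * a * c⁻¹) * c⁻¹) * c⁻¹ := by
            rw [pow_succ, pow_two]; group
        _ = a := by rw [hca, h1, h2]
    calc c ^ 3 * a = c ^ 3 * a * (c ^ 3)⁻¹ * c ^ 3 := by group
      _ = a * c ^ 3 := by rw [e]
  have hcop : Nat.Coprime 3 (orderOf c) := by
    rw [Nat.Prime.coprime_iff_not_dvd Nat.prime_three]
    exact fun h' => h.h3 (h'.trans (orderOf_dvd_natCard c))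
  obtain ⟨m, hm⟩ := exists_pow_eq_self_of_coprime hcop
  have h4 : Commute c a := by
    rw [← hm]
    exact Commute.pow_left h3 m
  rw [← hca, h4.eq, mul_assoc, mul_inv_cancel, mul_one]

end generic

section sit

variable {G : Type u} [Group G] [Finite G]

/-- The situation of a minimal counterexample with trivial cores. -/
structure Sit (σ : G ≃* G) (S : Sylow 2 G) : Prop where
  h : Hyp σ
  hS : ∀ x ∈ (S : Subgroup G), σ x ∈ (S : Subgroup G)
  hO : pPrimeCore 2 G = ⊥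
  hO2 : pCore 2 G = ⊥
  hne : (S : Subgroup G) ≠ ⊥
  IH : ∀ (X : Subgroup G) (hX : ∀ x ∈ X, σ x ∈ X), X ≠ ⊤ → Concl (resA σ h.hσ X hX)
  hFT : ∀ (X : Type u) [Group X] [Finite X], Odd (Nat.card X) → Group.IsSolvable X

variable {σ : G ≃* G} {S : Sylow 2 G} (X : Sit σ S)

include X

lemma Sit.normal_two {N : Subgroup G} (hN : N.Normal) (hp : IsPGroup 2 N) : N = ⊥ :=
  le_bot_iff.1 (X.hO2 ▸ le_pCore hN hp)

lemma Sit.normal_odd {N : Subgroup G} (hN : N.Normal) (hp : (Nat.card N).Coprime 2) : N = ⊥ :=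
  le_bot_iff.1 (X.hO ▸ le_pPrimeCore hN hp)

lemma Sit.hsym : ∀ x, σ (σ (σ x)) = x := X.h.hσ

lemma Sit.hSsub {x : G} (hx : σ x ∈ (S : Subgroup G)) : x ∈ (S : Subgroup G) := by
  have := X.hS _ (X.hS _ hx)
  rwa [X.h.hσ] at this

lemma Sit.elt_free (x : ↥(S : Subgroup G)) (hx : σ x.1 = x.1) : x = 1 := by
  obtain ⟨k, hk⟩ := (IsPGroup.iff_orderOf.1 S.isPGroup') x
  apply Subtype.ext
  refine pow_two_eq_one_of_fixed X.h hx ⟨k, ?_⟩
  have := congrArg Subtype.val (show (x ^ 2 ^ k) = 1 by rw [← hk, pow_orderOf_eq_one])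
  simpa using this

lemma Sit.hcl : ∀ P : Subgroup G, IsPGroup 2 P → ∀ a ∈ P, ∀ b ∈ P, ∀ c ∈ P, ⁅⁅a, b⁆, c⁆ = 1 := by
  intro P hP a ha b hb c hc
  obtain ⟨Q, hQ⟩ := hP.exists_le_sylow
  obtain ⟨g, rfl⟩ := MulAction.exists_smul_eq G S Q
  have hcl0 := Cfsg.Agent.Lib.FpfS3.ClassTwo.class_two _ ↥(S : Subgroup G) rfl S.isPGroup'
    (resA σ X.h.hσ S X.hS) (fun x => Subtype.ext (X.h.hσ x)) (fun x hx => X.elt_free x (congrArg Subtype.val hx))
  have hmem : ∀ y ∈ P, g⁻¹ * y * g ∈ (S : Subgroup G) := by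
    intro y hy
    have := hQ hy
    rw [Sylow.coe_subgroup_smul, Subgroup.mem_pointwise_smul_iff_inv_smul_mem] at this
    simpa using this
  have h1 := hcl0 ⟨_, hmem a ha⟩ ⟨_, hmem b hb⟩ ⟨_, hmem c hc⟩
  have h2 := congrArg Subtype.val h1
  simp only [commutatorElement_def, MulMemClass.coe_mul, InvMemClass.coe_inv, OneMemClass.coe_one] at h2
  have h3 : g⁻¹ * (⁅⁅a, b⁆, c⁆) * g = 1 := by
    rw [← h2]
    simp only [commutatorElement_def]
    group
  have h4 : ⁅⁅a, b⁆, c⁆ = g * (g⁻¹ * (⁅⁅a, b⁆, c⁆) * g) * g⁻¹ := by group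
  rw [h4, h3]
  group

lemma Sit.map_S : (S : Subgroup G).map σ.toMonoidHom = S := by
  apply le_antisymm
  · rintro _ ⟨x, hx, rfl⟩
    exact X.hS x hx
  · intro x hx
    refine ⟨σ (σ x), X.hS _ (X.hS _ hx), X.h.hσ x⟩

/-- Control of fusion by the normalizer of `S`. -/
theorem Sit.ctl (B : Set G) (hB : B ⊆ (S : Subgroup G)) (g : G)
    (hg : ∀ b ∈ B, g * b * g⁻¹ ∈ (S : Subgroup G)) :
    ∃ n ∈ normalizer ((S : Subgroup G) : Set G), ∀ b ∈ B, n * b * n⁻¹ = g * b * g⁻¹ := by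
  classical
  obtain ⟨n, hn, hnb⟩ := csf_set (csf_j X.h.h3 X.hcl) S B hB g hg
  rw [Wf_WJ2 _ S.isPGroup'] at hn
  obtain ⟨J, hJ⟩ : ∃ J : Subgroup G, J = jOf 2 (S : Subgroup G) := ⟨_, rfl⟩
  rw [← hJ] at hn
  have hJσ : ∀ x ∈ J, σ x ∈ J := by
    intro x hx
    have h1 := jOf_map_equiv (e := 2) (S : Subgroup G) σ
    have h2 : (S : Subgroup G).map σ.toMonoidHom = S := X.map_S
    rw [h2, ← hJ] at h1
    rw [← h1]
    exact ⟨x, hx, rfl⟩
  have hJp : IsPGroup 2 J := by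
    rw [hJ]
    exact S.isPGroup'.to_le ((pFunctor_jOf (e := 2) (p := 2) (Or.inr rfl)).le (S : Subgroup G))
  have hMσ : ∀ x ∈ NN J, σ x ∈ NN J := by
    intro m hm
    apply mem_norm_of_conj_le
    intro x hx
    have h1 : σ (σ x) ∈ J := hJσ _ (hJσ _ hx)
    have h2 := hJσ _ ((mem_NN.1 hm _).1 h1)
    rw [map_mul, map_mul, map_inv, X.h.hσ] at h2
    exact h2
  have hMne : NN J ≠ ⊤ := by
    intro htop
    have hJn : J.Normal := NN_eq_top_iff.1 htop
    have := X.normal_two hJn hJp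
    rw [hJ] at this
    exact (pFunctor_jOf (e := 2) (p := 2) (Or.inr rfl)).ne_bot (S : Subgroup G) S.isPGroup' X.hne this
  have hc := X.IH (NN J) hMσ hMne
  have hNle : normalizer ((S : Subgroup G) : Set G) ≤ NN J := by
    rw [hJ]
    exact (pFunctor_jOf (e := 2) (p := 2) (Or.inr rfl)).normalizer_le (S : Subgroup G) S.isPGroup'
  have hSM : (S : Subgroup G) ≤ NN J := le_normalizer.trans hNle
  obtain ⟨o, ho, n', hn', hee⟩ := frat_b hc.2.1 (S.subtype hSM) ⟨n, hn⟩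
  have hn'S : (n' : G) ∈ normalizer ((S : Subgroup G) : Set G) := by
    apply mem_norm_of_conj_le
    intro x hx
    have h1 : (⟨x, hSM hx⟩ : NN J) ∈ ((S.subtype hSM : Sylow 2 (NN J)) : Subgroup (NN J)) := by
      rw [Sylow.coe_subtype, Subgroup.mem_subgroupOf]
      exact hx
    have h2 := (mem_normalizer_iff.1 hn' _).1 h1
    rw [Sylow.coe_subtype, Subgroup.mem_subgroupOf] at h2
    simpa using h2
  refine ⟨n', hn'S, fun b hb => ?_⟩
  have hbS : (b : G) ∈ (S : Subgroup G) := hB hb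
  have h1 : (n' : G) * b * (n' : G)⁻¹ ∈ (S : Subgroup G) := (mem_normalizer_iff.1 hn'S _).1 hbS
  have hb' : (⟨(n' : G) * b * (n' : G)⁻¹, hSM h1⟩ : NN J) ∈
      ((S.subtype hSM : Sylow 2 (NN J)) : Subgroup (NN J)) := by
    rw [Sylow.coe_subtype, Subgroup.mem_subgroupOf]
    exact h1
  have hco : (n : G) = o * n' := congrArg Subtype.val hee
  have hob : o * (⟨(n' : G) * b * (n' : G)⁻¹, hSM h1⟩ : NN J) * o⁻¹ ∈
      ((S.subtype hSM : Sylow 2 (NN J)) : Subgroup (NN J)) := by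
    rw [Sylow.coe_subtype, Subgroup.mem_subgroupOf]
    have e : ((o * (⟨(n' : G) * b * (n' : G)⁻¹, hSM h1⟩ : NN J) * o⁻¹ : NN J) : G)
        = n * b * n⁻¹ := by
      simp only [MulMemClass.coe_mul, InvMemClass.coe_inv]
      rw [hco]; group
    rw [e, hnb b hb]
    exact hg b hb
  have hcm := comm_of_core (S₀ := ((S.subtype hSM : Sylow 2 (NN J)) : Subgroup (NN J)))
    (Sylow.isPGroup' _) ho hb' hob
  have hcm' : (o : G) * ((n' : G) * b * (n' : G)⁻¹) = ((n' : G) * b * (n' : G)⁻¹) * o :=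
    congrArg Subtype.val hcm
  rw [← hnb b hb, hco]
  calc (n' : G) * b * (n' : G)⁻¹ = (o : G) * ((n' : G) * b * (n' : G)⁻¹) * (o : G)⁻¹ := by
        rw [hcm']; group
    _ = (o : G) * n' * b * ((o : G) * n')⁻¹ := by group

/-- The normalizer of `S` acts on `Z(S)` as fixed points of `σ` do. -/
theorem Sit.fixN {n : G} (hn : n ∈ normalizer ((S : Subgroup G) : Set G)) :
    ∃ c : G, σ c = c ∧ c ∈ normalizer ((S : Subgroup G) : Set G) ∧
      ∀ a ∈ (S : Subgroup G), (∀ s ∈ (S : Subgroup G), a * s = s * a) → n * a * n⁻¹ = c * a * c⁻¹ := by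
  classical
  obtain ⟨N, hNdef⟩ : ∃ N : Subgroup G, N = normalizer ((S : Subgroup G) : Set G) := ⟨_, rfl⟩
  rw [← hNdef] at hn ⊢
  have hNσ : ∀ x ∈ N, σ x ∈ N := by
    intro m hm
    rw [hNdef] at hm ⊢
    apply mem_norm_of_conj_le
    intro x hx
    have h1 : σ (σ x) ∈ (S : Subgroup G) := X.hS _ (X.hS _ hx)
    have h2 := X.hS _ ((mem_normalizer_iff.1 hm _).1 h1)
    rw [map_mul, map_mul, map_inv, X.h.hσ] at h2
    exact h2
  have hNne : N ≠ ⊤ := by
    intro htop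
    rw [hNdef] at htop
    have hSn : (S : Subgroup G).Normal := normalizer_eq_top_iff.1 htop
    exact X.hne (X.normal_two hSn S.isPGroup')
  have hc := X.IH N hNσ hNne
  have hSN : (S : Subgroup G) ≤ N := by rw [hNdef]; exact le_normalizer
  have htop : (⟨n, hn⟩ : N) ∈ pPrimePCore 2 N ⊔ fixSub (resA σ X.h.hσ N hNσ) := by
    rw [hc.2.2]; exact mem_top _
  have hnm := pPrimePCore_normal' (T := N)
  rw [Subgroup.mem_sup_of_normal_left] at htop
  obtain ⟨y, hy, c, hc', hee⟩ := htop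
  obtain ⟨o, ho, s, hs, rfl⟩ := frat_a (S.subtype hSN) hy
  have hcσ : σ (c : G) = c := congrArg Subtype.val hc'
  have hcN : (c : G) ∈ normalizer ((S : Subgroup G) : Set G) := hNdef ▸ c.2
  refine ⟨c, hcσ, c.2, fun a ha hac => ?_⟩
  have hco : n = (o : G) * s * c := by
    have := congrArg Subtype.val hee
    simpa using this.symm
  have hsS : (s : G) ∈ (S : Subgroup G) := by
    rw [Sylow.coe_subtype, Subgroup.mem_subgroupOf] at hs
    exact hs
  -- b
  have hbS : (c : G) * a * (c : G)⁻¹ ∈ (S : Subgroup G) := (mem_normalizer_iff.1 hcN _).1 ha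
  have hbc : (s : G) * ((c : G) * a * (c : G)⁻¹) = ((c : G) * a * (c : G)⁻¹) * s := by
    have h1 : (c : G)⁻¹ * s * c ∈ (S : Subgroup G) := by
      apply (mem_normalizer_iff.1 hcN _).2
      convert hsS using 1
      group
    have h2 := hac _ h1
    calc (s : G) * ((c : G) * a * (c : G)⁻¹) = c * (((c : G)⁻¹ * s * c) * a) * (c : G)⁻¹ := by group
      _ = c * (a * ((c : G)⁻¹ * s * c)) * (c : G)⁻¹ := by rw [h2]
      _ = _ := by group
  have hnS : n * a * n⁻¹ ∈ (S : Subgroup G) := by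
    have : n ∈ normalizer ((S : Subgroup G) : Set G) := hNdef ▸ hn
    exact (mem_normalizer_iff.1 this _).1 ha
  have e1 : n * a * n⁻¹ = (o : G) * ((c : G) * a * (c : G)⁻¹) * (o : G)⁻¹ := by
    rw [hco]
    calc (o : G) * s * c * a * ((o : G) * s * c)⁻¹
        = o * ((s : G) * ((c : G) * a * (c : G)⁻¹)) * (s : G)⁻¹ * (o : G)⁻¹ := by group
      _ = o * (((c : G) * a * (c : G)⁻¹) * s) * (s : G)⁻¹ * (o : G)⁻¹ := by rw [hbc]
      _ = _ := by group
  have hb' : (⟨(c : G) * a * (c : G)⁻¹, hSN hbS⟩ : N) ∈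
      ((S.subtype hSN : Sylow 2 N) : Subgroup N) := by
    rw [Sylow.coe_subtype, Subgroup.mem_subgroupOf]
    exact hbS
  have hob : o * (⟨(c : G) * a * (c : G)⁻¹, hSN hbS⟩ : N) * o⁻¹ ∈
      ((S.subtype hSN : Sylow 2 N) : Subgroup N) := by
    rw [Sylow.coe_subtype, Subgroup.mem_subgroupOf]
    have e : ((o * (⟨(c : G) * a * (c : G)⁻¹, hSN hbS⟩ : N) * o⁻¹ : N) : G) = n * a * n⁻¹ := by
      rw [e1]
      simp only [MulMemClass.coe_mul, InvMemClass.coe_inv]
    rw [e]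
    exact hnS
  have hcm := comm_of_core (S₀ := ((S.subtype hSN : Sylow 2 N) : Subgroup N))
    (Sylow.isPGroup' _) ho hb' hob
  have hcm' : (o : G) * ((c : G) * a * (c : G)⁻¹) = ((c : G) * a * (c : G)⁻¹) * o :=
    congrArg Subtype.val hcm
  rw [e1, hcm']
  group

lemma Sit.omZ_σ {a : G} (ha : a ∈ omZ (S : Subgroup G)) : σ a ∈ omZ (S : Subgroup G) := by
  refine ⟨X.hS _ ha.1, fun s hs => ?_, ?_⟩
  · have h1 : σ (σ s) ∈ (S : Subgroup G) := X.hS _ (X.hS _ hs)
    have h2 := congrArg σ (ha.2.1 _ h1)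
    rwa [map_mul, map_mul, X.h.hσ] at h2
  · have := congrArg σ ha.2.2
    rwa [map_mul, map_one] at this

/-- The trace on `Ω₁(Z(S))` vanishes. -/
lemma Sit.omZ_trace {a : G} (ha : a ∈ omZ (S : Subgroup G)) : a * σ a * σ (σ a) = 1 := by
  have h1 := X.omZ_σ ha
  have h2 := X.omZ_σ h1
  have hmem : a * σ a * σ (σ a) ∈ omZ (S : Subgroup G) := mul_mem (mul_mem ha h1) h2
  apply X.h.hinv _ _ hmem.2.2
  rw [map_mul, map_mul, X.h.hσ]
  calc σ a * σ (σ a) * a = a * (σ a * σ (σ a)) := (omZ_comm (mul_mem h1 h2) ha)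
    _ = _ := by group

/-- Strong closure. -/
lemma Sit.sc {a g : G} (ha : a ∈ omZ (S : Subgroup G)) (hg : g * a * g⁻¹ ∈ (S : Subgroup G)) :
    g * a * g⁻¹ ∈ omZ (S : Subgroup G) := by
  obtain ⟨n, hn, hnb⟩ := X.ctl {a} (Set.singleton_subset_iff.2 ha.1) g (by simpa using hg)
  rw [← hnb a rfl]
  exact omZ_norm ha hn

lemma Sit.nc1 {a g : G} (ha : a ∈ omZ (S : Subgroup G)) (ha1 : a ≠ 1) : g * a * g⁻¹ ≠ σ a := by
  intro hg
  have h1 := X.omZ_σ ha
  obtain ⟨n, hn, hnb⟩ := X.ctl {a} (Set.singleton_subset_iff.2 ha.1) g (by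
    simpa [hg] using h1.1)
  obtain ⟨c, hc, hcN, hcc⟩ := X.fixN hn
  have e : c * a * c⁻¹ = σ a := by
    rw [← hcc a ha.1 ha.2.1, hnb a rfl, hg]
  have e2 := fixed_conj X.h hc e
  exact ha1 (X.h.hinv a e2 ha.2.2)

lemma Sit.nc2 {a g : G} (ha : a ∈ omZ (S : Subgroup G)) (ha1 : a ≠ 1) : g * a * g⁻¹ ≠ σ (σ a) := by
  intro hg
  have h1 := X.omZ_σ (X.omZ_σ ha)
  have h2 : σ (σ a) ≠ 1 := by
    intro h3
    apply ha1
    have := congrArg σ h3
    rwa [X.h.hσ, map_one] at this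
  apply X.nc1 (g := g⁻¹) h1 h2
  rw [X.h.hσ, ← hg]
  group

lemma Sit.omZ_ne_one : ∃ a ∈ omZ (S : Subgroup G), a ≠ 1 := by
  classical
  have hnt : Nontrivial ↥(S : Subgroup G) := (Subgroup.nontrivial_iff_ne_bot _).2 X.hne
  have hZ := S.isPGroup'.center_nontrivial
  have h2 : 2 ∣ Nat.card (Subgroup.center ↥(S : Subgroup G)) := by
    obtain ⟨k, hk⟩ := (S.isPGroup'.to_subgroup (Subgroup.center _)).exists_card_eq
    have h0 : k ≠ 0 := by
      rintro rfl
      rw [pow_zero] at hk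
      have := Finite.one_lt_card (α := Subgroup.center ↥(S : Subgroup G))
      omega
    rw [hk]
    exact dvd_pow_self 2 h0
  obtain ⟨z, hz⟩ := exists_prime_orderOf_dvd_card' 2 h2
  have hz1 : z ≠ 1 := by
    rintro rfl
    simp at hz
  have hzz : ((z : ↥(S : Subgroup G)) : G) * ((z : ↥(S : Subgroup G)) : G) = 1 := by
    have := pow_orderOf_eq_one z
    rw [hz, pow_two] at this
    exact congrArg (fun y : Subgroup.center ↥(S : Subgroup G) => (((y : ↥(S : Subgroup G))) : G)) this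
  refine ⟨((z : ↥(S : Subgroup G)) : G), ⟨(z : ↥(S : Subgroup G)).2, fun s hs => ?_, hzz⟩, ?_⟩
  · have h3 := (Subgroup.mem_center_iff.1 z.2) ⟨s, hs⟩
    exact (congrArg Subtype.val h3).symm
  · intro h3
    apply hz1
    apply Subtype.ext
    apply Subtype.ext
    exact h3

/-- The isolated case of the Z*-theorem. -/
theorem Sit.card_omZ : 8 ≤ Nat.card (omZ (S : Subgroup G)) := by
  classical
  by_contra hlt
  obtain ⟨a, ha, ha1⟩ := X.omZ_ne_one
  have hs1 : σ a ∈ omZ (S : Subgroup G) := X.omZ_σ ha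
  have hs2 : σ (σ a) ∈ omZ (S : Subgroup G) := X.omZ_σ hs1
  have hne1 : σ a ≠ 1 := fun h => ha1 (by
    have := congrArg σ (congrArg σ h)
    rwa [X.h.hσ, map_one, map_one] at this)
  have hne2 : σ (σ a) ≠ 1 := fun h => ha1 (by
    have := congrArg σ h
    rwa [X.h.hσ, map_one] at this)
  have hne3 : σ a ≠ a := fun h => ha1 (X.h.hinv a h ha.2.2)
  have hne4 : σ (σ a) ≠ σ a := fun h => hne3 (σ.injective h)
  have hne5 : σ (σ a) ≠ a := by
    intro h
    apply hne3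
    have := congrArg σ h
    rwa [X.h.hσ, eq_comm] at this
  -- every element of `A` is one of four
  have hfour : ∀ x ∈ omZ (S : Subgroup G), x = 1 ∨ x = a ∨ x = σ a ∨ x = σ (σ a) := by
    intro x hx
    by_contra hcon
    push Not at hcon
    obtain ⟨h1, h2, h3, h4⟩ := hcon
    let F : Finset G := {1, a, σ a, σ (σ a), x}
    have hFc : F.card = 5 := by
      simp only [F]
      rw [Finset.card_insert_of_notMem, Finset.card_insert_of_notMem, Finset.card_insert_of_notMem,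
        Finset.card_insert_of_notMem, Finset.card_singleton]
      · simp [h4.symm]
      · simp [hne4.symm, h3.symm]
      · simp [hne3.symm, hne5.symm, h2.symm]
      · simp [ha1.symm, hne1.symm, hne2.symm, h1.symm]
    have hFs : (F : Set G) ⊆ (omZ (S : Subgroup G) : Set G) := by
      intro y hy
      simp only [F, Finset.coe_insert, Finset.coe_singleton, Set.mem_insert_iff, Set.mem_singleton_iff] at hy
      rcases hy with rfl | rfl | rfl | rfl | rfl
      · exact one_mem _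
      · exact ha
      · exact hs1
      · exact hs2
      · exact hx
    have hle : 5 ≤ Nat.card (omZ (S : Subgroup G)) := by
      have h5 := Set.ncard_le_ncard hFs (Set.toFinite _)
      rw [Set.ncard_coe_finset, hFc] at h5
      have e : Nat.card ↥(omZ (S : Subgroup G)) = ((omZ (S : Subgroup G) : Set G)).ncard :=
        Nat.card_coe_set_eq _
      rw [e]
      exact h5
    have hp : IsPGroup 2 (omZ (S : Subgroup G)) :=
      S.isPGroup'.to_le (fun y hy => hy.1)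
    obtain ⟨k, hk⟩ := hp.exists_card_eq
    apply hlt
    rw [hk] at hle ⊢
    have hk3 : 3 ≤ k := by
      by_contra hk2
      have : k ≤ 2 := by omega
      have h6 : 2 ^ k ≤ 2 ^ 2 := Nat.pow_le_pow_right (by norm_num) this
      omega
    calc 8 = 2 ^ 3 := rfl
      _ ≤ 2 ^ k := Nat.pow_le_pow_right (by norm_num) hk3
  -- isolated
  have hiso : ∀ g : G, g * a * g⁻¹ ∈ (S : Subgroup G) → g * a * g⁻¹ = a := by
    intro g hg
    have h1 := X.sc ha hg
    rcases hfour _ h1 with h2 | h2 | h2 | h2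
    · exfalso
      apply ha1
      have : a = g⁻¹ * (g * a * g⁻¹) * g := by group
      rw [this, h2]; group
    · exact h2
    · exact absurd h2 (X.nc1 ha ha1)
    · exact absurd h2 (X.nc2 ha ha1)
  have hord : orderOf a = 2 := by
    apply orderOf_eq_prime _ ha1
    rw [pow_two]; exact ha.2.2
  obtain ⟨N, hNn, hNo, hNc⟩ := Cfsg.Agent.S0215.result S a hord ha.1 hiso
  have hNbot : N = ⊥ := X.normal_odd hNn (by
    exact Nat.coprime_two_right.2 hNo)
  have hcen : ∀ g : G, g * a = a * g := by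
    intro g
    have h1 := hNc g
    rw [hNbot, mem_bot] at h1
    have e : a * g = a * g * a⁻¹ * g⁻¹ * (g * a) := by group
    rw [e, h1, one_mul]
  -- `⟨a⟩` is normal
  have hzn : (zpowers a).Normal := by
    constructor
    intro x hx g
    obtain ⟨i, rfl⟩ := mem_zpowers_iff.1 hx
    have hc : Commute g (a ^ i) := (Commute.zpow_right (hcen g) i)
    rw [hc.eq]
    simpa using hx
  have hzp : IsPGroup 2 (zpowers a) := by
    apply IsPGroup.of_card_dvd_pow (n := 1)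
    rw [Nat.card_zpowers, hord]
    norm_num
  have := X.normal_two hzn hzp
  rw [zpowers_eq_bot] at this
  exact ha1 this

/-- Weak closure of `σ u` under `C(u)`. -/
lemma Sit.wc {u g : G} (hu : u ∈ omZ (S : Subgroup G)) (hg : g * u = u * g)
    (h2 : g * σ u * g⁻¹ ∈ (S : Subgroup G)) : g * σ u * g⁻¹ = σ u := by
  have h1 := X.omZ_σ hu
  have hgu : g * u * g⁻¹ = u := by rw [hg]; group
  obtain ⟨n, hn, hnb⟩ := X.ctl {u, σ u} (by
    rintro y (rfl | rfl)
    · exact hu.1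
    · exact h1.1) g (by
    rintro y (rfl | rfl)
    · rw [hgu]; exact hu.1
    · exact h2)
  obtain ⟨c, hc, hcN, hcc⟩ := X.fixN hn
  have e1 : c * u * c⁻¹ = u := by
    rw [← hcc u hu.1 hu.2.1, hnb u (Or.inl rfl), hgu]
  have e2 : c * σ u * c⁻¹ = σ u := by
    have := congrArg σ e1
    rwa [map_mul, map_mul, map_inv, hc] at this
  rw [← hnb (σ u) (Or.inr rfl), hcc _ h1.1 h1.2.1, e2]

omit X in
/-- Square roots in a subgroup of odd order inverted by an involution. -/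
lemma conj_of_inverted {W : Type u} [Group W] [Finite W] (O : Subgroup W) (hO : (Nat.card O).Coprime 2)
    {v t : W} (hv : v * v = 1) (ht : t ∈ O) (htv : (t * v) * (t * v) = 1) :
    ∃ r ∈ O, r * v * r⁻¹ = t * v := by
  have hvi : v⁻¹ = v := inv_eq_of_mul_eq_one_left hv
  have h1 : v * t * v⁻¹ = t⁻¹ := by
    rw [hvi]
    have e : t * (v * t * v) = 1 := by
      calc t * (v * t * v) = (t * v) * (t * v) := by group
        _ = 1 := htv
    exact eq_inv_of_mul_eq_one_right e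
  have hord : Nat.Coprime 2 (orderOf t) := by
    have h2 : orderOf (⟨t, ht⟩ : O) ∣ Nat.card O := orderOf_dvd_natCard _
    have h3 : orderOf (⟨t, ht⟩ : O) = orderOf t := Subgroup.orderOf_mk t ht
    rw [h3] at h2
    exact (Nat.Coprime.coprime_dvd_left h2 hO).symm
  obtain ⟨k, hk⟩ := exists_pow_eq_self_of_coprime hord
  refine ⟨t ^ k, O.pow_mem ht k, ?_⟩
  have h2 : t ^ k * t ^ k = t := by
    rw [← pow_add, ← two_mul, pow_mul]
    exact hk
  have h3 : v * t ^ k * v⁻¹ = (t ^ k)⁻¹ := by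
    rw [← conj_pow, h1, inv_pow]
  calc t ^ k * v * (t ^ k)⁻¹ = t ^ k * (v * (t ^ k)⁻¹ * v⁻¹) * v := by group
    _ = t ^ k * (v * t ^ k * v⁻¹)⁻¹ * v := by group
    _ = t ^ k * t ^ k * v := by rw [h3, inv_inv]
    _ = t * v := by rw [h2]

/-- Every element of `C(u)` is a product of an element of `O(C(u))` and an element centralizing `σ u`. -/
theorem Sit.theta_decomp {u g : G} (hu : u ∈ omZ (S : Subgroup G)) (hu1 : u ≠ 1)
    (hg : g ∈ centralizer ({u} : Set G)) :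
    ∃ o ∈ centralizerPPrimeCore 2 u, (o⁻¹ * g) * σ u = σ u * (o⁻¹ * g) := by
  classical
  have hmemC : ∀ {y : G}, y * u = u * y → y ∈ centralizer ({u} : Set G) := by
    intro y hy
    rw [mem_centralizer_iff]
    rintro _ rfl
    exact hy.symm
  have hcomC : ∀ {y : G}, y ∈ centralizer ({u} : Set G) → y * u = u * y := by
    intro y hy
    rw [mem_centralizer_iff] at hy
    exact (hy u rfl).symm
  have hSW : (S : Subgroup G) ≤ centralizer ({u} : Set G) := fun y hy => hmemC (hu.2.1 y hy).symm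
  have h1 := X.omZ_σ hu
  let W : Subgroup G := centralizer ({u} : Set G)
  let v : W := ⟨σ u, hSW h1.1⟩
  have hv : v * v = 1 := Subtype.ext h1.2.2
  have hv1 : v ≠ 1 := by
    intro h
    have h2 : σ u = 1 := congrArg Subtype.val h
    apply hu1
    have := congrArg σ (congrArg σ h2)
    rwa [X.h.hσ, map_one, map_one] at this
  have hord : orderOf v = 2 := by
    apply orderOf_eq_prime _ hv1
    rw [pow_two]; exact hv
  have hvP : v ∈ ((S.subtype hSW : Sylow 2 W) : Subgroup W) := by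
    rw [Sylow.coe_subtype, Subgroup.mem_subgroupOf]
    exact h1.1
  have hiso : ∀ y : W, y * v * y⁻¹ ∈ ((S.subtype hSW : Sylow 2 W) : Subgroup W) → y * v * y⁻¹ = v := by
    intro y hy
    rw [Sylow.coe_subtype, Subgroup.mem_subgroupOf] at hy
    apply Subtype.ext
    exact X.wc hu (hcomC y.2) hy
  obtain ⟨N, hNn, hNo, hNc⟩ := Cfsg.Agent.S0215.result (S.subtype hSW) v hord hvP hiso
  have hNO : N ≤ pPrimeCore 2 W := le_pPrimeCore hNn (Nat.coprime_two_right.2 hNo)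
  let g' : W := ⟨g, hg⟩
  let t : W := g' * v * g'⁻¹ * v⁻¹
  have ht : t ∈ pPrimeCore 2 W := by
    have := hNO (hNc g')
    have h2 := (pPrimeCore 2 W).inv_mem this
    convert h2 using 1
    simp only [t]
    group
  have htv : (t * v) * (t * v) = 1 := by
    have e : t * v = g' * v * g'⁻¹ := by simp only [t]; group
    rw [e]
    calc g' * v * g'⁻¹ * (g' * v * g'⁻¹) = g' * (v * v) * g'⁻¹ := by group
      _ = 1 := by rw [hv]; group
  obtain ⟨r, hr, hre⟩ := conj_of_inverted (pPrimeCore 2 W) pPrimeCore_coprime hv ht htv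
  refine ⟨r, mem_centralizerPPrimeCore_iff.2 ⟨r.2, hr⟩, ?_⟩
  have e : t * v = g' * v * g'⁻¹ := by simp only [t]; group
  rw [e] at hre
  have h3 : (r : G) * σ u * (r : G)⁻¹ = g * σ u * g⁻¹ := congrArg Subtype.val hre
  calc ((r : G)⁻¹ * g) * σ u = (r : G)⁻¹ * (g * σ u * g⁻¹) * g := by group
    _ = (r : G)⁻¹ * ((r : G) * σ u * (r : G)⁻¹) * g := by rw [h3]
    _ = σ u * ((r : G)⁻¹ * g) := by group

/-- The subgroup `C(u) ∩ C(σ u)`. -/
def Xu (σ : G ≃* G) (u : G) : Subgroup G := centralizer ({u} : Set G) ⊓ centralizer ({σ u} : Set G)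

omit X in
lemma mem_Xu {u x : G} : x ∈ Xu σ u ↔ x * u = u * x ∧ x * σ u = σ u * x := by
  simp only [Xu, mem_inf, mem_centralizer_iff, Set.mem_singleton_iff, forall_eq]
  constructor
  · rintro ⟨h1, h2⟩; exact ⟨h1.symm, h2.symm⟩
  · rintro ⟨h1, h2⟩; exact ⟨h1.symm, h2.symm⟩

lemma Sit.Xu_σ {u x : G} (hu : u ∈ omZ (S : Subgroup G)) (hx : x ∈ Xu σ u) : σ x ∈ Xu σ u := by
  rw [mem_Xu] at hx ⊢
  obtain ⟨h1, h2⟩ := hx
  have h3 : σ x * σ u = σ u * σ x := by rw [← map_mul, ← map_mul, h1]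
  have h4 : σ x * σ (σ u) = σ (σ u) * σ x := by rw [← map_mul, ← map_mul, h2]
  refine ⟨?_, h3⟩
  have htr := X.omZ_trace hu
  have hue : u = (σ u * σ (σ u))⁻¹ := by
    apply eq_inv_of_mul_eq_one_left
    rw [← mul_assoc]; exact htr
  have hc : Commute (σ x) (σ u * σ (σ u)) := Commute.mul_right h3 h4
  rw [hue]
  exact (hc.inv_right).eq

lemma Sit.S_le_Xu {u : G} (hu : u ∈ omZ (S : Subgroup G)) : (S : Subgroup G) ≤ Xu σ u := by
  intro y hy
  rw [mem_Xu]
  exact ⟨(hu.2.1 y hy).symm, ((X.omZ_σ hu).2.1 y hy).symm⟩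

/-- A central element of `G` in `S` is trivial. -/
lemma Sit.central_eq_one {a : G} (ha : a * a = 1) (hc : ∀ g : G, g * a = a * g) : a = 1 := by
  have hord : ∀ y : zpowers a, y ^ 2 = 1 := by
    rintro ⟨y, hy⟩
    obtain ⟨i, rfl⟩ := mem_zpowers_iff.1 hy
    apply Subtype.ext
    show (a ^ i) ^ 2 = 1
    rw [← zpow_natCast, ← zpow_mul, mul_comm, zpow_mul]
    simp [pow_two, ha]
  have hzp : IsPGroup 2 (zpowers a) := by
    intro y
    exact ⟨1, by simpa using hord y⟩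
  have hzn : (zpowers a).Normal := by
    constructor
    intro x hx g
    obtain ⟨i, rfl⟩ := mem_zpowers_iff.1 hx
    have hc' : Commute g (a ^ i) := (Commute.zpow_right (hc g) i)
    rw [hc'.eq]
    simpa using hx
  have := X.normal_two hzn hzp
  rwa [zpowers_eq_bot] at this

lemma Sit.Xu_ne_top {u : G} (hu : u ∈ omZ (S : Subgroup G)) (hu1 : u ≠ 1) : Xu σ u ≠ ⊤ := by
  intro h
  apply hu1
  apply X.central_eq_one hu.2.2
  intro g
  have : g ∈ Xu σ u := by rw [h]; exact mem_top g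
  exact (mem_Xu.1 this).1

omit X in
lemma norm_descend {M : Subgroup G} {S : Sylow 2 G} (hSM : (S : Subgroup G) ≤ M) {n' : M}
    (hn' : n' ∈ normalizer (((S.subtype hSM : Sylow 2 M) : Subgroup M) : Set M)) :
    (n' : G) ∈ normalizer ((S : Subgroup G) : Set G) := by
  apply mem_norm_of_conj_le
  intro x hx
  have h1 : (⟨x, hSM hx⟩ : M) ∈ ((S.subtype hSM : Sylow 2 M) : Subgroup M) := by
    rw [Sylow.coe_subtype, Subgroup.mem_subgroupOf]
    exact hx
  have h2 := (mem_normalizer_iff.1 hn' _).1 h1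
  rw [Sylow.coe_subtype, Subgroup.mem_subgroupOf] at h2
  simpa using h2

omit X in
/-- A subgroup of `C(u)` of odd order normalized by `C(u)` lies in `O(C(u))`. -/
lemma le_theta {u : G} {L : Subgroup G} (hLW : L ≤ centralizer ({u} : Set G))
    (hN : ∀ g ∈ centralizer ({u} : Set G), ∀ l ∈ L, g * l * g⁻¹ ∈ L) (hL : (Nat.card L).Coprime 2) :
    L ≤ centralizerPPrimeCore 2 u := by
  intro l hl
  let W : Subgroup G := centralizer ({u} : Set G)
  have hn : (L.subgroupOf W).Normal := by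
    constructor
    intro x hx g
    rw [mem_subgroupOf] at hx ⊢
    exact hN g g.2 x hx
  have hc : (Nat.card (L.subgroupOf W)).Coprime 2 := by
    rw [Nat.card_congr (subgroupOfEquivOfLe hLW).toEquiv]
    exact hL
  have h1 := le_pPrimeCore hn hc (show (⟨l, hLW hl⟩ : W) ∈ L.subgroupOf W from by
    rw [mem_subgroupOf]; exact hl)
  exact mem_centralizerPPrimeCore_iff.2 ⟨_, h1⟩

/-- The decomposition of `C(u)`. -/
theorem Sit.C_decomp {u g : G} (hu : u ∈ omZ (S : Subgroup G)) (hu1 : u ≠ 1)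
    (hg : g ∈ centralizer ({u} : Set G)) :
    ∃ o ∈ centralizerPPrimeCore 2 u, ∃ n ∈ normalizer ((S : Subgroup G) : Set G), g = o * n := by
  classical
  have hYσ : ∀ x ∈ Xu σ u, σ x ∈ Xu σ u := fun x hx => X.Xu_σ hu hx
  have hc := X.IH (Xu σ u) hYσ (X.Xu_ne_top hu hu1)
  have hθW : centralizerPPrimeCore 2 u ≤ centralizer ({u} : Set G) := centralizerPPrimeCore_le_centralizer u
  have hYW : Xu σ u ≤ centralizer ({u} : Set G) := inf_le_left
  -- O(Y) is in θ(u)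
  have hOY : (pPrimeCore 2 ↥(Xu σ u)).map (Xu σ u).subtype ≤ centralizerPPrimeCore 2 u := by
    refine le_trans le_sup_right (le_theta (L := centralizerPPrimeCore 2 u ⊔
      (pPrimeCore 2 ↥(Xu σ u)).map (Xu σ u).subtype) (u := u) ?_ ?_ ?_)
    · exact sup_le hθW ((map_subtype_le _).trans hYW)
    · intro g' hg' l hl
      obtain ⟨o, ho, hoe⟩ := X.theta_decomp hu hu1 hg'
      have hog : o⁻¹ * g' ∈ Xu σ u := by
        rw [mem_Xu]
        refine ⟨?_, hoe⟩
        have h1 := mul_mem (inv_mem (hθW ho)) hg'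
        rw [mem_centralizer_iff] at h1
        exact (h1 u rfl).symm
      have hl2 : (o⁻¹ * g') * l * (o⁻¹ * g')⁻¹ ∈ centralizerPPrimeCore 2 u ⊔
          (pPrimeCore 2 ↥(Xu σ u)).map (Xu σ u).subtype := by
        refine Cfsg.Agent.Lib.Signal.Basic.conj_mem_sup ?_ ?_ hl
        · intro t ht
          exact conj_mem_centralizerPPrimeCore (hYW hog) ht
        · rintro _ ⟨t, ht, rfl⟩
          exact ⟨⟨o⁻¹ * g', hog⟩ * t * ⟨o⁻¹ * g', hog⟩⁻¹,
            (inferInstance : (pPrimeCore 2 ↥(Xu σ u)).Normal).conj_mem t ht _, by simp⟩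
      have hoL : o ∈ centralizerPPrimeCore 2 u ⊔
          (pPrimeCore 2 ↥(Xu σ u)).map (Xu σ u).subtype := mem_sup_left ho
      have := mul_mem (mul_mem hoL hl2) (inv_mem hoL)
      convert this using 1
      group
    · have hn : (pPrimeCore 2 ↥(Xu σ u)).map (Xu σ u).subtype ≤
          normalizer ((centralizerPPrimeCore 2 u : Subgroup G) : Set G) := by
        intro t ht
        apply mem_norm_of_conj_le
        intro y hy
        exact conj_mem_centralizerPPrimeCore (hYW ((map_subtype_le _) ht)) hy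
      have h1 : ¬ 2 ∣ Nat.card (centralizerPPrimeCore 2 u) := by
        intro h
        have := Nat.Coprime.coprime_dvd_left h (coprime_card_centralizerPPrimeCore (p := 2) u)
        simp at this
      have h2 : ¬ 2 ∣ Nat.card ((pPrimeCore 2 ↥(Xu σ u)).map (Xu σ u).subtype) := by
        intro h
        have e : Nat.card ((pPrimeCore 2 ↥(Xu σ u)).map (Xu σ u).subtype)
            = Nat.card (pPrimeCore 2 ↥(Xu σ u)) :=
          (Nat.card_congr ((pPrimeCore 2 ↥(Xu σ u)).equivMapOfInjective _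
            (Subgroup.subtype_injective _)).toEquiv).symm
        rw [e] at h
        have := Nat.Coprime.coprime_dvd_left h (pPrimeCore_coprime (p := 2) (G := ↥(Xu σ u)))
        simp at this
      have h3 := Cfsg.Agent.Lib.Signal.Basic.not_dvd_card_sup_of_le_normalizer Nat.prime_two hn h1 h2
      exact ((Nat.Prime.coprime_iff_not_dvd Nat.prime_two).2 h3).symm
  obtain ⟨o₁, ho₁, hoe⟩ := X.theta_decomp hu hu1 hg
  have hx : o₁⁻¹ * g ∈ Xu σ u := by
    rw [mem_Xu]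
    refine ⟨?_, hoe⟩
    have h1 := mul_mem (inv_mem (hθW ho₁)) hg
    rw [mem_centralizer_iff] at h1
    exact (h1 u rfl).symm
  have hSY := X.S_le_Xu hu
  obtain ⟨o₂, ho₂, n', hn', hee⟩ := frat_b hc.2.1 (S.subtype hSY) ⟨_, hx⟩
  have hee' : o₁⁻¹ * g = o₂ * n' := congrArg Subtype.val hee
  refine ⟨o₁ * o₂, mul_mem ho₁ (hOY ⟨o₂, ho₂, rfl⟩), n', norm_descend hSY hn', ?_⟩
  calc g = o₁ * (o₁⁻¹ * g) := by group
    _ = o₁ * o₂ * n' := by rw [hee']; group

/-- `C(u)` is solvable. -/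
theorem Sit.C_solv {u : G} (hu : u ∈ omZ (S : Subgroup G)) (hu1 : u ≠ 1) :
    Group.IsSolvable ↥(centralizer ({u} : Set G)) := by
  classical
  have hYσ : ∀ x ∈ Xu σ u, σ x ∈ Xu σ u := fun x hx => X.Xu_σ hu hx
  have hc := X.IH (Xu σ u) hYσ (X.Xu_ne_top hu hu1)
  have hY : Group.IsSolvable ↥(Xu σ u) := hc.1
  have hYW : Xu σ u ≤ centralizer ({u} : Set G) := inf_le_left
  obtain ⟨W, hWdef⟩ : ∃ W : Subgroup G, W = centralizer ({u} : Set G) := ⟨_, rfl⟩
  rw [← hWdef] at hYW ⊢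
  have hq : Group.IsSolvable ↥(pPrimeCore 2 W) :=
    X.hFT _ (Nat.coprime_two_right.1 pPrimeCore_coprime)
  let f : ↥(Xu σ u) →* (W ⧸ pPrimeCore 2 W) :=
    (QuotientGroup.mk' (pPrimeCore 2 W)).comp (Subgroup.inclusion hYW)
  have hf : Function.Surjective f := by
    intro q
    induction q using QuotientGroup.induction_on with
    | H z =>
      have hz : (z : G) ∈ centralizer ({u} : Set G) := hWdef ▸ z.2
      obtain ⟨o, ho, hoe⟩ := X.theta_decomp hu hu1 hz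
      have hx : o⁻¹ * z ∈ Xu σ u := by
        rw [mem_Xu]
        refine ⟨?_, hoe⟩
        have h1 := mul_mem (inv_mem (centralizerPPrimeCore_le_centralizer u ho)) hz
        rw [mem_centralizer_iff] at h1
        exact (h1 u rfl).symm
      refine ⟨⟨_, hx⟩, ?_⟩
      show ((⟨o⁻¹ * z, hYW hx⟩ : W) : W ⧸ pPrimeCore 2 W) = z
      rw [QuotientGroup.eq]
      subst hWdef
      obtain ⟨h0, ho0⟩ := mem_centralizerPPrimeCore_iff.1 ho
      have h5 : (⟨o⁻¹ * z, hYW hx⟩ : centralizer ({u} : Set G))⁻¹ * z = z⁻¹ * ⟨o, h0⟩ * z⁻¹⁻¹ := by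
        apply Subtype.ext
        simp [mul_assoc]
      rw [h5]
      exact (inferInstance : (pPrimeCore 2 ↥(centralizer ({u} : Set G))).Normal).conj_mem _ ho0 _
  have hQ : Group.IsSolvable (W ⧸ pPrimeCore 2 W) := Group.isSolvable_of_surjective hf
  refine Group.isSolvable_of_ker_le_range (pPrimeCore 2 W).subtype
    (QuotientGroup.mk' (pPrimeCore 2 W)) ?_
  intro x hx
  rw [QuotientGroup.ker_mk'] at hx
  exact ⟨⟨x, hx⟩, rfl⟩

/-- Two elements of `omZ` conjugate by `h` and decomposition of `h`. -/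
theorem Sit.conj_fac {x x₀ h : G} (hx : x ∈ omZ (S : Subgroup G)) (hx1 : x ≠ 1)
    (hx₀ : x₀ ∈ omZ (S : Subgroup G)) (he : x₀ = h⁻¹ * x * h) :
    ∃ o ∈ centralizerPPrimeCore 2 x, ∃ n ∈ normalizer ((S : Subgroup G) : Set G), h = o * n := by
  have h1 : h * x₀ * h⁻¹ = x := by rw [he]; group
  obtain ⟨n₁, hn₁, hnb⟩ := X.ctl {x₀} (Set.singleton_subset_iff.2 hx₀.1) h (by
    rintro _ rfl
    rw [h1]; exact hx.1)
  have h2 : n₁ * x₀ * n₁⁻¹ = x := by rw [hnb x₀ rfl, h1]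
  have h3 : h * n₁⁻¹ ∈ centralizer ({x} : Set G) := by
    rw [mem_centralizer_iff]
    intro z hz
    rw [Set.mem_singleton_iff.1 hz]
    have e : x₀ = n₁⁻¹ * x * n₁ := by rw [← h2]; group
    calc x * (h * n₁⁻¹) = (h * x₀ * h⁻¹) * (h * n₁⁻¹) := by rw [h1]
      _ = h * x₀ * n₁⁻¹ := by group
      _ = h * (n₁⁻¹ * x * n₁) * n₁⁻¹ := by rw [← e]
      _ = h * n₁⁻¹ * x := by group
  obtain ⟨o, ho, n₃, hn₃, hee⟩ := X.C_decomp hx hx1 h3
  refine ⟨o, ho, n₃ * n₁, mul_mem hn₃ hn₁, ?_⟩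
  calc h = h * n₁⁻¹ * n₁ := by group
    _ = o * n₃ * n₁ := by rw [hee]
    _ = o * (n₃ * n₁) := by group

omit X in
/-- Decomposition of an element `ρ` into its 2-part and odd part, with a square root of the odd part. -/
lemma exists_parts (ρ : G) : ∃ (c : G) (k l a : ℕ), c = ρ ^ k ∧ c * c = ρ ^ l ∧ (ρ * (ρ ^ l)⁻¹) ^ 2 ^ a = 1 := by
  classical
  have hpos : orderOf ρ ≠ 0 := (orderOf_pos ρ).ne'
  obtain ⟨a, b, hb, hab⟩ := Nat.exists_eq_two_pow_mul_odd hpos
  obtain ⟨y, hy⟩ : ∃ y, y = ρ ^ 2 ^ a := ⟨_, rfl⟩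
  have hyb : y ^ b = 1 := by
    rw [hy, ← pow_mul, ← hab, pow_orderOf_eq_one]
  have hoddy : Nat.Coprime (2 ^ a) (orderOf y) :=
    Nat.Coprime.pow_left _ (Nat.Coprime.coprime_dvd_right (orderOf_dvd_of_pow_eq_one hyb) hb.coprime_two_left)
  obtain ⟨s, hs⟩ := exists_pow_eq_self_of_coprime hoddy
  obtain ⟨r, hr⟩ : ∃ r, r = y ^ s := ⟨_, rfl⟩
  have hrb : r ^ b = 1 := by
    rw [hr, ← pow_mul, mul_comm, pow_mul, hyb, one_pow]
  have hoddr : Nat.Coprime 2 (orderOf r) :=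
    Nat.Coprime.coprime_dvd_right (orderOf_dvd_of_pow_eq_one hrb) hb.coprime_two_left
  obtain ⟨t, ht⟩ := exists_pow_eq_self_of_coprime hoddr
  refine ⟨r ^ t, 2 ^ a * s * t, 2 ^ a * s, a, ?_, ?_, ?_⟩
  · rw [hr, hy, ← pow_mul, ← pow_mul, mul_assoc]
  · have e : r ^ t * r ^ t = r := by
      rw [← pow_add, ← two_mul, pow_mul]
      exact ht
    rw [e, hr, hy, ← pow_mul]
  · have e2 : ρ ^ (2 ^ a * s) = r := by
      rw [hr, hy, ← pow_mul]
    rw [e2]
    have hc : Commute ρ r⁻¹ := by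
      rw [hr, hy]
      exact ((Commute.refl ρ).pow_right _ |>.pow_right _).inv_right
    rw [hc.mul_pow, inv_pow]
    have e3 : r ^ 2 ^ a = y := by
      rw [hr, ← pow_mul, mul_comm, pow_mul]
      exact hs
    rw [e3, hy, mul_inv_cancel]

/-- The dihedral lemma. -/
theorem Sit.dihedral {x h₀ : G} (hx : x ∈ omZ (S : Subgroup G)) (hx1 : x ≠ 1) :
    ∃ c h : G, h⁻¹ * x * h ∈ omZ (S : Subgroup G) ∧
      h⁻¹ * (c * (h₀ * σ x * h₀⁻¹) * c⁻¹) * h ∈ omZ (S : Subgroup G) ∧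
      x ≠ c * (h₀ * σ x * h₀⁻¹) * c⁻¹ ∧
      c * (x * (c * (h₀ * σ x * h₀⁻¹) * c⁻¹)) = (x * (c * (h₀ * σ x * h₀⁻¹) * c⁻¹)) * c := by
  classical
  obtain ⟨w, hw⟩ : ∃ w, w = h₀ * σ x * h₀⁻¹ := ⟨_, rfl⟩
  rw [← hw]
  have hsx := X.omZ_σ hx
  have hww : w * w = 1 := by
    rw [hw]
    calc h₀ * σ x * h₀⁻¹ * (h₀ * σ x * h₀⁻¹) = h₀ * (σ x * σ x) * h₀⁻¹ := by group
      _ = 1 := by rw [hsx.2.2]; group
  have hxx := hx.2.2
  obtain ⟨ρ, hρ⟩ : ∃ ρ, ρ = x * w := ⟨_, rfl⟩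
  obtain ⟨c, k, l, a, hc, hcc, hpart⟩ := exists_parts ρ
  -- inversion
  have hxρ : x * ρ * x⁻¹ = ρ⁻¹ := by
    have hxi : x⁻¹ = x := inv_eq_of_mul_eq_one_left hxx
    have hwi : w⁻¹ = w := inv_eq_of_mul_eq_one_left hww
    rw [hρ, hxi]
    calc x * (x * w) * x = (x * x) * w * x := by group
      _ = w * x := by rw [hxx, one_mul]
      _ = (x * w)⁻¹ := by rw [mul_inv_rev, hxi, hwi]
  have hwρ : w * ρ * w⁻¹ = ρ⁻¹ := by
    have hxi : x⁻¹ = x := inv_eq_of_mul_eq_one_left hxx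
    have hwi : w⁻¹ = w := inv_eq_of_mul_eq_one_left hww
    rw [hρ, hwi]
    calc w * (x * w) * w = w * x * (w * w) := by group
      _ = w * x := by rw [hww, mul_one]
      _ = (x * w)⁻¹ := by rw [mul_inv_rev, hxi, hwi]
  have hxpow : ∀ m : ℕ, x * ρ ^ m = (ρ ^ m)⁻¹ * x := by
    intro m
    have e : x * ρ ^ m * x⁻¹ = (ρ ^ m)⁻¹ := by
      rw [← conj_pow, hxρ, inv_pow]
    calc x * ρ ^ m = x * ρ ^ m * x⁻¹ * x := by group
      _ = _ := by rw [e]
  have hwpow : ∀ m : ℕ, w * ρ ^ m = (ρ ^ m)⁻¹ * w := by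
    intro m
    have e : w * ρ ^ m * w⁻¹ = (ρ ^ m)⁻¹ := by
      rw [← conj_pow, hwρ, inv_pow]
    calc w * ρ ^ m = w * ρ ^ m * w⁻¹ * w := by group
      _ = _ := by rw [e]
  -- the new involution
  obtain ⟨ρ₃, hρ₃⟩ : ∃ ρ₃, ρ₃ = ρ ^ l := ⟨_, rfl⟩
  rw [← hρ₃] at hcc hpart
  obtain ⟨ρ₂, hρ₂⟩ : ∃ ρ₂, ρ₂ = ρ * ρ₃⁻¹ := ⟨_, rfl⟩
  rw [← hρ₂] at hpart
  have hw' : c * w * c⁻¹ = ρ₃ * w := by
    have e : w * c⁻¹ = c * w := by
      have h1 := hwpow k
      rw [← hc] at h1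
      calc w * c⁻¹ = c * (c⁻¹ * w) * c⁻¹ := by group
        _ = c * (w * c) * c⁻¹ := by rw [h1]
        _ = c * w := by group
    calc c * w * c⁻¹ = c * (w * c⁻¹) := by group
      _ = c * (c * w) := by rw [e]
      _ = (c * c) * w := by group
      _ = ρ₃ * w := by rw [hcc]
  obtain ⟨w', hw'def⟩ : ∃ w', w' = c * w * c⁻¹ := ⟨_, rfl⟩
  have hρcomm : ρ * ρ₃⁻¹ = ρ₃⁻¹ * ρ := by
    rw [hρ₃]
    exact (((Commute.refl ρ).pow_right l).inv_right).eq
  have hxw' : x * w' = ρ₂ := by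
    rw [hw'def, hw', hρ₂, hρcomm]
    have e1 := hxpow l
    rw [← hρ₃] at e1
    calc x * (ρ₃ * w) = (x * ρ₃) * w := by group
      _ = (ρ₃⁻¹ * x) * w := by rw [e1]
      _ = ρ₃⁻¹ * ρ := by rw [hρ]; group
  have hw'e : w' = x * ρ₂ := by
    rw [← hxw', ← mul_assoc, hxx, one_mul]
  -- the `2`-group
  have hz : IsPGroup 2 (zpowers ρ₂) := by
    apply IsPGroup.of_card_dvd_pow (n := a)
    rw [Nat.card_zpowers]
    exact orderOf_dvd_of_pow_eq_one hpart
  have hzx : IsPGroup 2 (zpowers x) := by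
    apply IsPGroup.of_card_dvd_pow (n := 1)
    rw [Nat.card_zpowers]
    apply orderOf_dvd_of_pow_eq_one
    rw [pow_one, pow_two, hxx]
  have hxρ₂ : x * ρ₂ * x⁻¹ = ρ₂⁻¹ := by
    have hxi : x⁻¹ = x := inv_eq_of_mul_eq_one_left hxx
    have hw'w' : w' * w' = 1 := by
      rw [hw'def]
      calc c * w * c⁻¹ * (c * w * c⁻¹) = c * (w * w) * c⁻¹ := by group
        _ = 1 := by rw [hww]; group
    have hw'i : w'⁻¹ = w' := inv_eq_of_mul_eq_one_left hw'w'
    rw [← hxw', hxi]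
    calc x * (x * w') * x = (x * x) * w' * x := by group
      _ = w' * x := by rw [hxx, one_mul]
      _ = (x * w')⁻¹ := by rw [mul_inv_rev, hxi, hw'i]
  have hle : zpowers x ≤ normalizer ((zpowers ρ₂ : Subgroup G) : Set G) := by
    rw [zpowers_le]
    apply mem_norm_of_conj_le
    intro y hy
    obtain ⟨i, rfl⟩ := mem_zpowers_iff.1 hy
    rw [← conj_zpow, hxρ₂, inv_zpow]
    exact inv_mem (zpow_mem (mem_zpowers ρ₂) i)
  have hP : IsPGroup 2 (zpowers x ⊔ zpowers ρ₂ : Subgroup G) :=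
    IsPGroup.to_sup_of_normal_right' hzx hz hle
  obtain ⟨Q, hQ⟩ := hP.exists_le_sylow
  obtain ⟨g, rfl⟩ := MulAction.exists_smul_eq G S Q
  have hmem : ∀ y ∈ (zpowers x ⊔ zpowers ρ₂ : Subgroup G), g⁻¹ * y * g ∈ (S : Subgroup G) := by
    intro y hy
    have := hQ hy
    rw [Sylow.coe_subgroup_smul, Subgroup.mem_pointwise_smul_iff_inv_smul_mem] at this
    simpa using this
  have h1 : x ∈ (zpowers x ⊔ zpowers ρ₂ : Subgroup G) := mem_sup_left (mem_zpowers x)
  have h2 : ρ₂ ∈ (zpowers x ⊔ zpowers ρ₂ : Subgroup G) := mem_sup_right (mem_zpowers ρ₂)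
  have h3 : w' ∈ (zpowers x ⊔ zpowers ρ₂ : Subgroup G) := by
    rw [hw'e]; exact mul_mem h1 h2
  refine ⟨c, g, ?_, ?_, ?_, ?_⟩ <;> try rw [← hw'def]
  · have := hmem x h1
    have h4 := X.sc (g := g⁻¹) hx (by simpa using this)
    simpa using h4
  · have := hmem w' h3
    have e : g⁻¹ * w' * g = (g⁻¹ * c * h₀) * σ x * (g⁻¹ * c * h₀)⁻¹ := by
      rw [hw'def, hw]; group
    rw [e] at this ⊢
    exact X.sc hsx this
  · intro h4
    have h5 : (c * h₀) * σ x * (c * h₀)⁻¹ = σ (σ (σ x)) := by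
      calc (c * h₀) * σ x * (c * h₀)⁻¹ = c * (h₀ * σ x * h₀⁻¹) * c⁻¹ := by group
        _ = w' := by rw [hw'def, hw]
        _ = x := h4.symm
        _ = σ (σ (σ x)) := (X.h.hσ x).symm
    exact X.nc2 hsx (fun h6 => hx1 (by
      have := congrArg σ (congrArg σ h6)
      rwa [X.h.hσ, map_one, map_one] at this)) h5
  · rw [hxw']
    rw [hρ₂, hρ₃, hc]
    have hc1 : Commute (ρ ^ k) ρ := ((Commute.refl ρ).pow_left k)
    have hc2 : Commute (ρ ^ k) (ρ ^ l)⁻¹ := (((Commute.refl ρ).pow_left k).pow_right l).inv_right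
    exact (hc1.mul_right hc2).eq

omit X in
/-- The closure of the signalizer functor. -/
def Wstar (S : Subgroup G) : Subgroup G :=
  ⨆ a : {a : G // a ∈ omZ S ∧ a ≠ 1}, centralizerPPrimeCore 2 (a : G)

omit X in
lemma theta_le_Wstar {S : Subgroup G} {a : G} (ha : a ∈ omZ S) (ha1 : a ≠ 1) :
    centralizerPPrimeCore 2 a ≤ Wstar S :=
  le_iSup (fun a : {a : G // a ∈ omZ S ∧ a ≠ 1} => centralizerPPrimeCore 2 (a : G)) ⟨a, ha, ha1⟩

/-- The signalizer functor theorem in the situation. -/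
theorem Sit.Wstar_odd : ¬ 2 ∣ Nat.card (Wstar (S : Subgroup G)) := by
  classical
  have hcard := X.card_omZ
  have hEA : IsElementaryAbelian 2 (omZ (S : Subgroup G)) := by
    refine ⟨⟨⟨fun a b => Subtype.ext (omZ_comm a.2 b.2)⟩⟩, fun a ha => ?_⟩
    rw [pow_two]; exact ha.2.2
  have hsig := Cfsg.Agent.S1279.result 2 (omZ (S : Subgroup G)) hEA (by omega)
    (fun a ha ha1 => X.C_solv ha ha1)
  obtain ⟨⟨h1, h2, h3, h4⟩, h5⟩ := hsig
  exact (Cfsg.Agent.S0217.result (p := 2) (omZ (S : Subgroup G)) (fun a ha b hb => omZ_comm ha hb)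
    (fun a ha => by rw [pow_two]; exact ha.2.2) (by omega)
    (fun a => centralizerPPrimeCore 2 a) h1 h2 h3 h5 h4).1

lemma Sit.norm_le : normalizer ((S : Subgroup G) : Set G) ≤ normalizer ((Wstar (S : Subgroup G) : Subgroup G) : Set G) := by
  intro n hn
  apply mem_norm_of_conj_le
  have hle : Wstar (S : Subgroup G) ≤ (Wstar (S : Subgroup G)).comap (MulAut.conj n).toMonoidHom := by
    refine iSup_le ?_
    rintro ⟨a, ha, ha1⟩ x hx
    have h1 := Cfsg.Agent.Lib.Signal.BalanceFor.conj_mem_centralizerCore (p := 2) (g := n) hx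
    have h2 : n * a * n⁻¹ ∈ omZ (S : Subgroup G) := omZ_norm ha hn
    have h3 : n * a * n⁻¹ ≠ 1 := by
      intro h4
      apply ha1
      have e : a = n⁻¹ * (n * a * n⁻¹) * n := by group
      rw [e, h4]; group
    exact theta_le_Wstar h2 h3 h1
  exact fun x hx => hle hx

lemma Sit.C_le {u : G} (hu : u ∈ omZ (S : Subgroup G)) (hu1 : u ≠ 1) :
    centralizer ({u} : Set G) ≤ normalizer ((Wstar (S : Subgroup G) : Subgroup G) : Set G) := by
  intro g hg
  obtain ⟨o, ho, n, hn, rfl⟩ := X.C_decomp hu hu1 hg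
  exact mul_mem (le_normalizer (theta_le_Wstar hu hu1 ho)) (X.norm_le hn)

lemma Sit.ne_one_of_conj {a g : G} (ha : a ≠ 1) : g * a * g⁻¹ ≠ 1 := by
  intro h4
  apply ha
  have e : a = g⁻¹ * (g * a * g⁻¹) * g := by group
  rw [e, h4]; group

/-- All conjugates of elements of `A` normalize `W*`. -/
theorem Sit.conj_in_Nstar {x h₀ : G} (hx : x ∈ omZ (S : Subgroup G)) (hx1 : x ≠ 1) :
    h₀ * σ x * h₀⁻¹ ∈ normalizer ((Wstar (S : Subgroup G) : Subgroup G) : Set G) := by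
  obtain ⟨c, h, hx₀, hw₀, hne, hcomm⟩ := X.dihedral (h₀ := h₀) hx hx1
  obtain ⟨o, ho, n, hn, hhe⟩ := X.conj_fac hx hx1 hx₀ rfl
  obtain ⟨w, hw⟩ : ∃ w, w = h₀ * σ x * h₀⁻¹ := ⟨_, rfl⟩
  rw [← hw] at hw₀ hne hcomm ⊢
  obtain ⟨w', hw'⟩ : ∃ w', w' = c * w * c⁻¹ := ⟨_, rfl⟩
  rw [← hw'] at hw₀ hne hcomm
  obtain ⟨v, hv⟩ : ∃ v, v = x * w' := ⟨_, rfl⟩
  rw [← hv] at hcomm
  have hxx := hx.2.2
  have hv₁ : h⁻¹ * v * h ∈ omZ (S : Subgroup G) := by
    have := mul_mem hx₀ hw₀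
    convert this using 1
    rw [hv]; group
  have hv1 : v ≠ 1 := by
    intro h1
    rw [hv] at h1
    apply hne
    have hxi : x⁻¹ = x := inv_eq_of_mul_eq_one_left hxx
    have := eq_inv_of_mul_eq_one_right h1
    rw [this, hxi]
  have hv₂ : n * (h⁻¹ * v * h) * n⁻¹ ∈ omZ (S : Subgroup G) := omZ_norm hv₁ hn
  have hv₂1 : n * (h⁻¹ * v * h) * n⁻¹ ≠ 1 := X.ne_one_of_conj (by
    have := X.ne_one_of_conj (g := h⁻¹) hv1
    simpa using this)
  obtain ⟨v₂, hv₂d⟩ : ∃ v₂, v₂ = n * (h⁻¹ * v * h) * n⁻¹ := ⟨_, rfl⟩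
  rw [← hv₂d] at hv₂ hv₂1
  have hvo : v = o * v₂ * o⁻¹ := by
    rw [hv₂d, hhe]; group
  have ho' : o ∈ normalizer ((Wstar (S : Subgroup G) : Subgroup G) : Set G) :=
    le_normalizer (theta_le_Wstar hx hx1 ho)
  have hSN : (S : Subgroup G) ≤ normalizer ((Wstar (S : Subgroup G) : Subgroup G) : Set G) :=
    le_normalizer.trans X.norm_le
  have hv' : v ∈ normalizer ((Wstar (S : Subgroup G) : Subgroup G) : Set G) := by
    rw [hvo]
    exact mul_mem (mul_mem ho' (hSN hv₂.1)) (inv_mem ho')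
  have hcc : o⁻¹ * c * o ∈ centralizer ({v₂} : Set G) := by
    rw [mem_centralizer_iff]
    intro z hz
    rw [Set.mem_singleton_iff.1 hz]
    have e : v₂ = o⁻¹ * v * o := by rw [hvo]; group
    rw [e]
    calc o⁻¹ * v * o * (o⁻¹ * c * o) = o⁻¹ * (v * c) * o := by group
      _ = o⁻¹ * (c * v) * o := by rw [hcomm]
      _ = _ := by group
  have hc' : c ∈ normalizer ((Wstar (S : Subgroup G) : Subgroup G) : Set G) := by
    have h1 := X.C_le hv₂ hv₂1 hcc
    have := mul_mem (mul_mem ho' h1) (inv_mem ho')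
    convert this using 1
    group
  have hw'N : w' ∈ normalizer ((Wstar (S : Subgroup G) : Subgroup G) : Set G) := by
    have e : w' = x * v := by
      rw [hv, ← mul_assoc, hxx, one_mul]
    rw [e]
    exact mul_mem (hSN hx.1) hv'
  have e : w = c⁻¹ * w' * c := by rw [hw']; group
  rw [e]
  exact mul_mem (mul_mem (inv_mem hc') hw'N) hc'

/-- The normal closure of `A` is everything. -/
theorem Sit.closure_top : normalClosure ((omZ (S : Subgroup G) : Subgroup G) : Set G) = ⊤ := by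
  classical
  by_contra hne
  obtain ⟨B, hB⟩ : ∃ B : Subgroup G, B = normalClosure ((omZ (S : Subgroup G) : Subgroup G) : Set G) :=
    ⟨_, rfl⟩
  rw [← hB] at hne
  have hBn : B.Normal := by rw [hB]; infer_instance
  have hAB : ∀ a ∈ omZ (S : Subgroup G), a ∈ B := fun a ha => by
    rw [hB]; exact subset_normalClosure ha
  have hBσ : ∀ x ∈ B, σ x ∈ B := by
    have hle : B ≤ B.comap σ.toMonoidHom := by
      rw [hB]
      have hnn : (Subgroup.comap σ.toMonoidHom (normalClosure ((omZ (S : Subgroup G) : Subgroup G) : Set G))).Normal :=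
        Subgroup.Normal.comap inferInstance _
      refine normalClosure_le_normal ?_
      intro a ha
      exact subset_normalClosure (X.omZ_σ ha)
    exact fun x hx => hle hx
  have hc := X.IH B hBσ hne
  have hsol : Group.IsSolvable ↥B := hc.1
  obtain ⟨a, ha, ha1⟩ := X.omZ_ne_one
  have hnt : Nontrivial ↥B := by
    refine ⟨⟨⟨a, hAB a ha⟩, 1, ?_⟩⟩
    intro h
    exact ha1 (congrArg Subtype.val h)
  have hps : IsPSolvable 2 ↥B := Cfsg.Agent.Lib.Core.PSolvable2.isPSolvable_of_isSolvable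
  obtain ⟨N, hNn, hN1, hNc⟩ := Cfsg.Agent.Lib.Core.PSolvable.isPSolvable_exists_normal hps
  have hsub : B.IsSubnormal := hBn.isSubnormal
  have hp1 : pCore 2 ↥B = ⊥ := by
    have h1 := map_pCore_of_isSubnormal (p := 2) hsub
    rw [X.hO2, bot_inf_eq] at h1
    exact (Subgroup.map_eq_bot_iff_of_injective _ B.subtype_injective).1 h1
  have hp2 : pPrimeCore 2 ↥B = ⊥ := by
    have h1 := map_pPrimeCore_of_isSubnormal (p := 2) hsub
    rw [X.hO, bot_inf_eq] at h1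
    exact (Subgroup.map_eq_bot_iff_of_injective _ B.subtype_injective).1 h1
  rcases hNc with ⟨m, hm⟩ | hm
  · have : N ≤ pCore 2 ↥B := le_pCore hNn (IsPGroup.of_card hm)
    rw [hp1, le_bot_iff] at this
    exact hN1 this
  · have : N ≤ pPrimeCore 2 ↥B := le_pPrimeCore hNn hm
    rw [hp2, le_bot_iff] at this
    exact hN1 this

lemma Sit.inv_two {a : G} (ha : a ∈ omZ (S : Subgroup G)) : σ (σ (σ (σ (σ (σ a))))) = a := by
  rw [X.h.hσ, X.h.hσ]

/-- All `θ(a)` are trivial. -/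
theorem Sit.theta_bot {a : G} (ha : a ∈ omZ (S : Subgroup G)) (ha1 : a ≠ 1) :
    centralizerPPrimeCore 2 a = ⊥ := by
  classical
  have hle : normalClosure ((omZ (S : Subgroup G) : Subgroup G) : Set G) ≤
      normalizer ((Wstar (S : Subgroup G) : Subgroup G) : Set G) := by
    rw [normalClosure, closure_le]
    intro y hy
    obtain ⟨b, hb, hby⟩ := Group.mem_conjugatesOfSet_iff.1 hy
    obtain ⟨g, rfl⟩ := isConj_iff.1 hby
    by_cases hb1 : b = 1
    · rw [hb1]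
      simp [one_mem]
    · have h2 : σ (σ b) ∈ omZ (S : Subgroup G) := X.omZ_σ (X.omZ_σ hb)
      have h3 : σ (σ b) ≠ 1 := fun h => hb1 (by
        have := congrArg σ h
        rwa [X.h.hσ, map_one] at this)
      have := X.conj_in_Nstar (h₀ := g) h2 h3
      rwa [X.h.hσ] at this
  rw [X.closure_top, top_le_iff, normalizer_eq_top_iff] at hle
  have hbot := X.normal_odd hle ((Nat.Prime.coprime_iff_not_dvd Nat.prime_two).2 X.Wstar_odd).symm
  have := theta_le_Wstar ha ha1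
  rw [hbot, le_bot_iff] at this
  exact this

/-- `A` is normal, the final contradiction. -/
theorem Sit.final : False := by
  classical
  obtain ⟨a, ha, ha1⟩ := X.omZ_ne_one
  have hn : (omZ (S : Subgroup G)).Normal := by
    constructor
    intro b hb g
    by_cases hb1 : b = 1
    · rw [hb1]; simp [one_mem]
    have h2 : σ (σ b) ∈ omZ (S : Subgroup G) := X.omZ_σ (X.omZ_σ hb)
    have h3 : σ (σ b) ≠ 1 := fun h => hb1 (by
      have := congrArg σ h
      rwa [X.h.hσ, map_one] at this)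
    obtain ⟨x, hxdef⟩ : ∃ x, x = σ (σ b) := ⟨_, rfl⟩
    rw [← hxdef] at h2 h3
    have hbx : b = σ x := by rw [hxdef, X.h.hσ]
    obtain ⟨c, h, hx₀, hw₀, hne, hcomm⟩ := X.dihedral (h₀ := g) h2 h3
    obtain ⟨o, ho, n, hn, hhe⟩ := X.conj_fac h2 h3 hx₀ rfl
    rw [X.theta_bot h2 h3, mem_bot] at ho
    rw [ho, one_mul] at hhe
    rw [hbx]
    obtain ⟨w, hw⟩ : ∃ w, w = g * σ x * g⁻¹ := ⟨_, rfl⟩
    rw [← hw] at hw₀ hne hcomm ⊢
    obtain ⟨w', hw'⟩ : ∃ w', w' = c * w * c⁻¹ := ⟨_, rfl⟩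
    rw [← hw'] at hw₀ hne hcomm
    have hw'A : w' ∈ omZ (S : Subgroup G) := by
      have := omZ_norm hw₀ (hhe ▸ hn)
      convert this using 1
      group
    have hv : x * w' ∈ omZ (S : Subgroup G) := mul_mem h2 hw'A
    have hv1 : x * w' ≠ 1 := by
      intro h1
      apply hne
      have hxi : x⁻¹ = x := inv_eq_of_mul_eq_one_left h2.2.2
      have h4 := eq_inv_of_mul_eq_one_right h1
      rw [h4, hxi]
    have hcC : c ∈ centralizer ({x * w'} : Set G) := by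
      rw [mem_centralizer_iff]
      intro z hz
      rw [Set.mem_singleton_iff.1 hz]
      exact hcomm.symm
    obtain ⟨o', ho', n', hn', hce⟩ := X.C_decomp hv hv1 hcC
    rw [X.theta_bot hv hv1, mem_bot] at ho'
    rw [ho', one_mul] at hce
    have := omZ_norm hw'A (inv_mem (hce ▸ hn'))
    convert this using 1
    rw [hw']; group
  have := X.normal_two hn (S.isPGroup'.to_le (fun y hy => hy.1))
  rw [this, mem_bot] at ha
  exact ha1 ha

end sit

section simple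

variable {G : Type u} [Group G] [Finite G]

/-- There is no minimal counterexample with trivial `O(G)` and `O₂(G)`. -/
theorem simple_case {σ : G ≃* G} (h : Hyp σ)
    (hFT : ∀ (X : Type u) [Group X] [Finite X], Odd (Nat.card X) → Group.IsSolvable X)
    (hO : pPrimeCore 2 G = ⊥) (hO2 : pCore 2 G = ⊥) (hnt : Nontrivial G)
    (IH : ∀ (X : Subgroup G) (hX : ∀ x ∈ X, σ x ∈ X), X ≠ ⊤ → Concl (resA σ h.hσ X hX)) : False := by
  classical
  obtain ⟨S, hS⟩ := exists_inv_sylow h 2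
  have hne : (S : Subgroup G) ≠ ⊥ := by
    intro hbot
    have h1 : ¬ 2 ∣ Nat.card G := by
      intro hd
      have := Sylow.ne_bot_of_dvd_card S hd
      exact this hbot
    have h2 : (Nat.card G).Coprime 2 := ((Nat.Prime.coprime_iff_not_dvd Nat.prime_two).2 h1).symm
    have h3 := pPrimeCore_eq_top_iff.2 h2
    rw [hO] at h3
    exact bot_ne_top h3
  exact Sit.final (σ := σ) (S := S) ⟨h, hS, hO, hO2, hne, IH, hFT⟩

end simple

end Cfsg.Agent.Lib.FpfS3.Local
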