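import Cfsg.Agent.Lib.FpfS3.Local
import Cfsg.Agent.Lib.Core.PSolvable

/-!
# The induction
-/

set_option autoImplicit false
set_option linter.unusedSectionVars false
set_option linter.unusedVariables false

namespace Cfsg.Agent.Lib.FpfS3.Reduce

open Subgroup Cfsg
open scoped commutatorElement
open Cfsg.Agent.Lib.Core.Basic Cfsg.Agent.Lib.Core.PSolvable Cfsg.Agent.Lib.Core.PSolvable2
open Cfsg.Agent.Lib.FpfS3.Basic Cfsg.Agent.Lib.FpfS3.Control Cfsg.Agent.Lib.FpfS3.Local
  Cfsg.Agent.Lib.FpfS3.Shult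

universe u

lemma pPrimePCore_eq_of_bot {T : Type u} [Group T] [Finite T] (h : pPrimeCore 2 T = ⊥) :
    pPrimePCore 2 T = pCore 2 T := by
  classical
  have hinj : Function.Injective (QuotientGroup.mk' (pPrimeCore 2 T)) := by
    rw [← MonoidHom.ker_eq_bot_iff, QuotientGroup.ker_mk', h]
  let e : T ≃* T ⧸ pPrimeCore 2 T :=
    MulEquiv.ofBijective (QuotientGroup.mk' _) ⟨hinj, QuotientGroup.mk'_surjective _⟩
  have h1 := map_pCore_equiv (p := 2) e
  ext x
  show QuotientGroup.mk' (pPrimeCore 2 T) x ∈ pCore 2 (T ⧸ pPrimeCore 2 T) ↔ x ∈ pCore 2 T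
  rw [← h1]
  constructor
  · rintro ⟨y, hy, hye⟩
    have : y = x := hinj hye
    rwa [← this]
  · intro hx
    exact ⟨x, hx, rfl⟩

section b2

variable {G : Type u} [Group G] [Finite G] {σ : G ≃* G}

lemma pCore_σ (h : Hyp σ) {x : G} (hx : x ∈ pCore 2 G) : σ x ∈ pCore 2 G := by
  have h1 := map_pCore_equiv (p := 2) σ
  rw [← h1]
  exact ⟨x, hx, rfl⟩

lemma pPrimeCore_σ (h : Hyp σ) {x : G} (hx : x ∈ pPrimeCore 2 G) : σ x ∈ pPrimeCore 2 G := by
  have h1 := map_pPrimeCore_equiv (p := 2) σ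
  rw [← h1]
  exact ⟨x, hx, rfl⟩

lemma elt_coprime {x : G} {p q a b : ℕ} (hpq : Nat.Coprime p q) (h1 : x ^ p ^ a = 1) (h2 : x ^ q ^ b = 1) :
    x = 1 := by
  have h3 : orderOf x ∣ p ^ a := orderOf_dvd_of_pow_eq_one h1
  have h4 : orderOf x ∣ q ^ b := orderOf_dvd_of_pow_eq_one h2
  have h5 : Nat.Coprime (p ^ a) (q ^ b) := Nat.Coprime.pow _ _ hpq
  exact orderOf_eq_one_iff.1 (Nat.Coprime.eq_one_of_dvd (Nat.Coprime.coprime_dvd_left h3 h5) h4)

lemma exists_pow_of_pgroup {p : ℕ} {P : Subgroup G} (hP : IsPGroup p P) {x : G} (hx : x ∈ P) :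
    ∃ k, x ^ p ^ k = 1 := by
  obtain ⟨k, hk⟩ := hP ⟨x, hx⟩
  exact ⟨k, congrArg Subtype.val hk⟩

/-- Invariant Sylow subgroups of invariant subgroups are fixed. -/
lemma fixed_sylow (h : Hyp σ)
    (hC : centralizer ((pCore 2 G : Subgroup G) : Set G) ≤ pCore 2 G)
    (L : Subgroup G) (hL : ∀ x ∈ L, σ x ∈ L) (r : ℕ) [hr : Fact r.Prime] (hr2 : r ≠ 2) :
    ∃ R : Sylow r L, ∀ x ∈ (R : Subgroup L), σ (x : G) = x := by
  classical
  have hr' : r.Prime := hr.out
  obtain ⟨R, hR⟩ := exists_inv_sylow (h.res L hL) r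
  refine ⟨R, fun x hx => ?_⟩
  by_cases hr3 : r = 3
  · subst hr3
    obtain ⟨k, hk⟩ := R.isPGroup' ⟨x, hx⟩
    have hk' : x ^ 3 ^ k = 1 := congrArg Subtype.val hk
    have h1 : orderOf x ∣ 3 ^ k := orderOf_dvd_of_pow_eq_one hk'
    have h2 : orderOf x ∣ Nat.card L := orderOf_dvd_natCard x
    have h3 : Nat.Coprime (Nat.card L) 3 :=
      ((Nat.Prime.coprime_iff_not_dvd Nat.prime_three).2
        (fun h' => h.h3 (h'.trans (Subgroup.card_subgroup_dvd_card L)))).symm
    have h4 : orderOf x = 1 :=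
      Nat.Coprime.eq_one_of_dvd (Nat.Coprime.coprime_dvd_left h2 (Nat.Coprime.pow_right k h3)) h1
    rw [orderOf_eq_one_iff.1 h4]
    simp
  · have hP : IsPGroup r ((R : Subgroup L).map L.subtype) := R.isPGroup'.map L.subtype
    refine claim h hr2 hr3 ((R : Subgroup L).map L.subtype) (pCore 2 G) hP pCore_isPGroup ?_
      (fun x hx => pCore_σ h hx) ?_ ?_ _ ⟨x, hx, rfl⟩
    · rintro _ ⟨y, hy, rfl⟩
      exact ⟨_, hR y hy, rfl⟩
    · intro u hu x hx
      exact (inferInstance : (pCore 2 G).Normal).conj_mem x hx u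
    · intro u hu hcomm
      have h1 : u ∈ pCore 2 G := hC (by
        rw [mem_centralizer_iff]
        intro z hz
        exact (hcomm z hz).symm)
      obtain ⟨a, ha⟩ := exists_pow_of_pgroup hP hu
      obtain ⟨b, hb⟩ := exists_pow_of_pgroup pCore_isPGroup h1
      exact elt_coprime ((Nat.coprime_primes hr' Nat.prime_two).2 hr2) ha hb

/-- A decomposition of an invariant subgroup all of whose `2`-elements lie in the core. -/
lemma decomp (h : Hyp σ) (hC : centralizer ((pCore 2 G : Subgroup G) : Set G) ≤ pCore 2 G)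
    (L : Subgroup G) (hL : ∀ x ∈ L, σ x ∈ L)
    (hQ2 : ∀ x ∈ L, (∃ k, x ^ 2 ^ k = 1) → x ∈ pCore 2 G) {x : G} (hx : x ∈ L) :
    ∃ q ∈ pCore 2 G, ∃ c, σ c = c ∧ x = q * c := by
  classical
  have hF : (pCore 2 G).subgroupOf L ⊔ fixSub (resA σ h.hσ L hL) = ⊤ := by
    refine eq_top_of_forall_sylow_le _ ?_
    intro p _
    by_cases hp : p = 2
    · subst hp
      obtain ⟨P⟩ : Nonempty (Sylow 2 L) := inferInstance
      refine ⟨P, le_trans ?_ le_sup_left⟩
      intro t ht
      rw [mem_subgroupOf]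
      apply hQ2 _ t.2
      obtain ⟨k, hk⟩ := P.isPGroup' ⟨t, ht⟩
      exact ⟨k, congrArg (fun z : (P : Subgroup L) => (((z : L)) : G)) hk⟩
    · obtain ⟨R, hR⟩ := fixed_sylow h hC L hL p hp
      refine ⟨R, le_trans ?_ le_sup_right⟩
      intro t ht
      exact Subtype.ext (hR t ht)
  have hn : ((pCore 2 G).subgroupOf L).Normal := Subgroup.Normal.subgroupOf inferInstance _
  have hmem : (⟨x, hx⟩ : L) ∈ (pCore 2 G).subgroupOf L ⊔ fixSub (resA σ h.hσ L hL) := by
    rw [hF]; exact mem_top _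
  rw [Subgroup.mem_sup_of_normal_left] at hmem
  obtain ⟨y, hy, c, hc, he⟩ := hmem
  rw [mem_subgroupOf] at hy
  exact ⟨y, hy, c, congrArg Subtype.val hc, (congrArg Subtype.val he).symm⟩

end b2

/-- The second reduction: `O(G) = 1`, `O₂(G) ≠ 1`. -/
theorem case_b2 {G : Type u} [Group G] [Finite G] {σ : G ≃* G} (h : Hyp σ)
    (hO : pPrimeCore 2 G = ⊥) (hsolq : Group.IsSolvable (G ⧸ pCore 2 G))
    (hc : Concl (quoA σ h.hσ (pCore 2 G) (fun x hx => pCore_σ h hx))) : Concl σ := by
  classical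
  obtain ⟨Q, hQdef⟩ : ∃ Q : Subgroup G, Q = pCore 2 G := ⟨_, rfl⟩
  have hQσ : ∀ x ∈ pCore 2 G, σ x ∈ pCore 2 G := fun x hx => pCore_σ h hx
  have hsol : Group.IsSolvable G := by
    have hq : Group.IsSolvable (pCore 2 G) := by
      have := (pCore_isPGroup (p := 2) (G := G)).isNilpotent
      infer_instance
    refine Group.isSolvable_of_ker_le_range (pCore 2 G).subtype (QuotientGroup.mk' (pCore 2 G)) ?_
    intro x hx
    rw [QuotientGroup.ker_mk'] at hx
    exact ⟨⟨x, hx⟩, rfl⟩
  have hps : IsPSolvable 2 G := isPSolvable_of_isSolvable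
  have hC := centralizer_pCore_le_of_isPSolvable hps hO
  -- the quotient
  let H := G ⧸ pCore 2 G
  let σb : H ≃* H := quoA σ h.hσ (pCore 2 G) hQσ
  have hhyp : Hyp σb := h.quo _ hQσ
  have hσbmk : ∀ x : G, σb (x : H) = ((σ x : G) : H) := fun x => rfl
  -- σb fixes O(H)
  have hfix : ∀ o ∈ pPrimeCore 2 H, σb o = o := by
    intro o ho
    obtain ⟨z, rfl⟩ := QuotientGroup.mk'_surjective (pCore 2 G) o
    have hL : ∀ x ∈ (pPrimeCore 2 H).comap (QuotientGroup.mk' (pCore 2 G)),
        σ x ∈ (pPrimeCore 2 H).comap (QuotientGroup.mk' (pCore 2 G)) := by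
      intro x hx
      exact pPrimeCore_σ hhyp hx
    have hQ2 : ∀ x ∈ (pPrimeCore 2 H).comap (QuotientGroup.mk' (pCore 2 G)),
        (∃ k, x ^ 2 ^ k = 1) → x ∈ pCore 2 G := by
      rintro x hx ⟨k, hk⟩
      have h1 : (x : H) ^ 2 ^ k = 1 := by
        rw [← QuotientGroup.mk_pow, hk]; rfl
      have h2 := elt_two_odd hx h1
      exact (QuotientGroup.eq_one_iff x).1 h2
    obtain ⟨q, hq, c, hc', he⟩ := decomp h hC _ hL hQ2 ho
    have e : ((z : G) : H) = ((c : G) : H) := by
      rw [he, QuotientGroup.mk_mul, (QuotientGroup.eq_one_iff q).2 hq, one_mul]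
    show σb ((z : G) : H) = ((z : G) : H)
    rw [e, hσbmk, hc']
  -- an invariant Sylow subgroup of `H`
  obtain ⟨Sb, hSb⟩ := exists_inv_sylow hhyp 2
  -- it centralizes O(H)
  have hcen : ∀ s ∈ (Sb : Subgroup H), ∀ o ∈ pPrimeCore 2 H, s * o = o * s := by
    let f : ↥(Sb : Subgroup H) → ↥(Sb : Subgroup H) := fun t =>
      ⟨(t : H)⁻¹ * σb t, mul_mem (inv_mem t.2) (hSb _ t.2)⟩
    have hfi : Function.Injective f := by
      intro a b hab
      have h1 : (a : H)⁻¹ * σb a = (b : H)⁻¹ * σb b := congrArg Subtype.val hab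
      have h2 : σb ((b : H) * (a : H)⁻¹) = (b : H) * (a : H)⁻¹ := by
        rw [map_mul, map_inv]
        have h3 : σb b = (b : H) * ((a : H)⁻¹ * σb a) := by
          rw [h1]; group
        rw [h3]; group
      have h3 : (b : H) * (a : H)⁻¹ ∈ (Sb : Subgroup H) := mul_mem b.2 (inv_mem a.2)
      have h4 := pow_two_eq_one_of_fixed hhyp h2 (exists_pow_of_pgroup Sb.isPGroup' h3)
      apply Subtype.ext
      exact (mul_inv_eq_one.1 h4).symm
    have hfs : Function.Surjective f := Finite.injective_iff_surjective.1 hfi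
    intro s hs o ho
    obtain ⟨t, ht⟩ := hfs ⟨s, hs⟩
    have hse : s = (t : H)⁻¹ * σb t := (congrArg Subtype.val ht).symm
    have h1 : (t : H) * o * (t : H)⁻¹ ∈ pPrimeCore 2 H :=
      (inferInstance : (pPrimeCore 2 H).Normal).conj_mem o ho t
    have h2 := hfix _ h1
    rw [map_mul, map_mul, map_inv, hfix o ho] at h2
    rw [hse]
    calc (t : H)⁻¹ * σb t * o = (t : H)⁻¹ * (σb t * o * (σb t)⁻¹) * σb t := by group
      _ = (t : H)⁻¹ * ((t : H) * o * (t : H)⁻¹) * σb t := by rw [h2]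
      _ = o * ((t : H)⁻¹ * σb t) := by group
  -- it is normal
  have hSle := sylow_le_pPrimePCore hc.2.1 Sb
  have hnorm : (Sb : Subgroup H).Normal := by
    constructor
    intro s hs g
    have h1 := (pPrimePCore_normal' (T := H)).conj_mem s (hSle hs) g
    obtain ⟨o, ho, t, ht, he⟩ := frat_a Sb h1
    obtain ⟨m, hm⟩ := Sb.isPGroup'.exists_card_eq
    have hs1 : s ^ 2 ^ m = 1 := by
      have := pow_card_eq_one' (x := (⟨s, hs⟩ : (Sb : Subgroup H)))
      rw [hm] at this
      exact congrArg Subtype.val this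
    have ht1 : t ^ 2 ^ m = 1 := by
      have := pow_card_eq_one' (x := (⟨t, ht⟩ : (Sb : Subgroup H)))
      rw [hm] at this
      exact congrArg Subtype.val this
    have hcom : Commute o t := (hcen t ht o ho).symm
    have h2 : (g * s * g⁻¹) ^ 2 ^ m = 1 := by
      rw [conj_pow, hs1]; group
    rw [he, hcom.mul_pow, ht1, mul_one] at h2
    have ho1 := elt_two_odd ho h2
    rw [he, ho1, one_mul]
    exact ht
  have hSbot : (Sb : Subgroup H) = ⊥ := by
    have h1 : (Sb : Subgroup H) ≤ pCore 2 H := le_pCore hnorm Sb.isPGroup'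
    have h2 : pCore 2 H = ⊥ := pCore_quotient_eq_bot
    rw [h2, le_bot_iff] at h1
    exact h1
  have hodd : ¬ 2 ∣ Nat.card H := by
    intro hd
    exact Sylow.ne_bot_of_dvd_card Sb hd hSbot
  have hcop : (Nat.card H).Coprime 2 := ((Nat.Prime.coprime_iff_not_dvd Nat.prime_two).2 hodd).symm
  have hindex : ¬ 2 ∣ (pCore 2 G).index := by
    rw [Subgroup.index_eq_card]
    exact hodd
  -- the decomposition of `G`
  have hQ2 : ∀ x ∈ (⊤ : Subgroup G), (∃ k, x ^ 2 ^ k = 1) → x ∈ pCore 2 G := by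
    rintro x - ⟨k, hk⟩
    have h1 : (x : H) ^ 2 ^ k = 1 := by
      rw [← QuotientGroup.mk_pow, hk]; rfl
    have h2 : orderOf (x : H) ∣ Nat.card H := orderOf_dvd_natCard _
    have h3 : orderOf (x : H) ∣ 2 ^ k := orderOf_dvd_of_pow_eq_one h1
    have h4 : orderOf (x : H) = 1 :=
      Nat.Coprime.eq_one_of_dvd (Nat.Coprime.coprime_dvd_left h2 (Nat.Coprime.pow_right k hcop)) h3
    exact (QuotientGroup.eq_one_iff x).1 (orderOf_eq_one_iff.1 h4)
  have hsup : pCore 2 G ⊔ fixSub σ = ⊤ := by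
    rw [eq_top_iff]
    intro x _
    obtain ⟨q, hq, c, hc', he⟩ := decomp h hC ⊤ (fun _ _ => mem_top _) hQ2 (mem_top x)
    rw [he]
    exact mul_mem (mem_sup_left hq) (mem_sup_right hc')
  rw [Concl, pPrimePCore_eq_of_bot hO]
  exact ⟨hsol, hindex, hsup⟩

/-- The main theorem, given the odd order theorem. -/
theorem main_thm (hFT : ∀ (X : Type u) [Group X] [Finite X], Odd (Nat.card X) → Group.IsSolvable X) :
    ∀ (n : ℕ) (G : Type u) [Group G] [Finite G], Nat.card G = n → ∀ σ : G ≃* G, Hyp σ → Concl σ := by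
  classical
  intro n
  induction n using Nat.strong_induction_on with
  | _ n ih =>
  intro G _ _ hn σ h
  have hsub : ∀ (X : Subgroup G) (hX : ∀ x ∈ X, σ x ∈ X), X ≠ ⊤ → Concl (resA σ h.hσ X hX) := by
    intro X hX hne
    refine ih _ ?_ X rfl _ (h.res X hX)
    rw [← hn]
    exact lt_of_le_of_ne (Nat.le_of_dvd Nat.card_pos (Subgroup.card_subgroup_dvd_card X))
      (fun h' => hne (Subgroup.eq_top_of_card_eq X h'))
  have hquo : ∀ (N : Subgroup G) [N.Normal] (hN : ∀ x ∈ N, σ x ∈ N), N ≠ ⊥ → Concl (quoA σ h.hσ N hN) := by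
    intro N _ hN hne
    refine ih _ ?_ (G ⧸ N) rfl _ (h.quo N hN)
    rw [← hn]
    have h1 : Nat.card G = Nat.card (G ⧸ N) * Nat.card N :=
      Subgroup.card_eq_card_quotient_mul_card_subgroup N
    have h2 : 1 < Nat.card N := by
      have : Nontrivial N := (Subgroup.nontrivial_iff_ne_bot N).2 hne
      exact Finite.one_lt_card
    have h3 : 0 < Nat.card (G ⧸ N) := Nat.card_pos
    rw [h1]
    nlinarith
  by_cases hO : pPrimeCore 2 G = ⊥
  · by_cases hQ : pCore 2 G = ⊥
    · by_cases hnt : Nontrivial G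
      · exact (simple_case h hFT hO hQ hnt hsub).elim
      · rw [not_nontrivial_iff_subsingleton] at hnt
        have htop : ∀ X : Subgroup G, X = ⊤ := fun X => (Subgroup.eq_top_iff' X).2 (fun x => by
          rw [Subsingleton.elim x 1]; exact one_mem _)
        refine ⟨inferInstance, ?_, htop _⟩
        rw [htop (pPrimePCore 2 G), Subgroup.index_top]
        norm_num
    · have hc := hquo (pCore 2 G) (fun x hx => pCore_σ h hx) hQ
      exact case_b2 h hO hc.1 hc
  · -- `O(G) ≠ 1`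
    have hOσ : ∀ x ∈ pPrimeCore 2 G, σ x ∈ pPrimeCore 2 G := fun x hx => pPrimeCore_σ h hx
    have hc := hquo (pPrimeCore 2 G) hOσ hO
    have hH : pPrimePCore 2 (G ⧸ pPrimeCore 2 G) = pCore 2 (G ⧸ pPrimeCore 2 G) :=
      pPrimePCore_eq_of_bot pPrimeCore_quotient_eq_bot
    obtain ⟨hc1, hc2, hc3⟩ := hc
    rw [hH] at hc2 hc3
    refine ⟨?_, ?_, ?_⟩
    · have hq : Group.IsSolvable (pPrimeCore 2 G) :=
        hFT _ (Nat.coprime_two_right.1 pPrimeCore_coprime)
      refine Group.isSolvable_of_ker_le_range (pPrimeCore 2 G).subtype (QuotientGroup.mk' (pPrimeCore 2 G)) ?_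
      intro x hx
      rw [QuotientGroup.ker_mk'] at hx
      exact ⟨⟨x, hx⟩, rfl⟩
    · have e : pPrimePCore 2 G = (pCore 2 (G ⧸ pPrimeCore 2 G)).comap (QuotientGroup.mk' (pPrimeCore 2 G)) := rfl
      rw [e, Subgroup.index_comap_of_surjective _ (QuotientGroup.mk'_surjective _)]
      exact hc2
    · rw [eq_top_iff]
      intro g _
      have hg : (g : G ⧸ pPrimeCore 2 G) ∈
          pCore 2 (G ⧸ pPrimeCore 2 G) ⊔ fixSub (quoA σ h.hσ (pPrimeCore 2 G) hOσ) := by
        rw [hc3]; exact mem_top _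
      rw [Subgroup.mem_sup_of_normal_left] at hg
      obtain ⟨y, hy, c, hc', he⟩ := hg
      obtain ⟨c', hc'1, hc'2⟩ := exists_fixed_lift h (pPrimeCore 2 G) hOσ c hc'
      have h1 : g * c'⁻¹ ∈ pPrimePCore 2 G := by
        show QuotientGroup.mk' (pPrimeCore 2 G) (g * c'⁻¹) ∈ pCore 2 (G ⧸ pPrimeCore 2 G)
        have e : QuotientGroup.mk' (pPrimeCore 2 G) (g * c'⁻¹) = y := by
          rw [map_mul, map_inv]
          show (g : G ⧸ pPrimeCore 2 G) * ((c' : G ⧸ pPrimeCore 2 G))⁻¹ = y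
          rw [hc'2, ← he]
          group
        rw [e]
        exact hy
      have h2 : g = (g * c'⁻¹) * c' := by group
      rw [h2]
      exact mul_mem (mem_sup_left h1) (mem_sup_right hc'1)

section wrap

variable {G : Type u} [Group G] [Finite G]

/-- The group of fixed points of `σ` is inverted by an involution. -/
theorem hyp_of_pair (h3 : ¬ 3 ∣ Nat.card G) (σ t : G ≃* G) (hσ3 : ∀ x, σ (σ (σ x)) = x)
    (ht2 : ∀ x, t (t x) = x) (hrel : ∀ x, t (σ (t x)) = σ (σ x))
    (hfpf : ∀ x, σ x = x → t x = x → x = 1) : Hyp σ := by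
  classical
  have htC : ∀ x ∈ fixSub σ, t x ∈ fixSub σ := by
    intro x hx
    have hx' : σ x = x := hx
    have h1 := hrel (t x)
    rw [ht2, hx'] at h1
    show σ (t x) = t x
    have h2 := congrArg σ h1
    rw [hσ3] at h2
    exact h2
  let f : ↥(fixSub σ) → ↥(fixSub σ) := fun x => ⟨(x : G)⁻¹ * t x, mul_mem (inv_mem x.2) (htC _ x.2)⟩
  have hfi : Function.Injective f := by
    intro a b hab
    have h1 : (a : G)⁻¹ * t a = (b : G)⁻¹ * t b := congrArg Subtype.val hab
    have h2 : t ((b : G) * (a : G)⁻¹) = (b : G) * (a : G)⁻¹ := by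
      rw [map_mul, map_inv]
      have h4 : t b = (b : G) * ((a : G)⁻¹ * t a) := by
        rw [h1]; group
      rw [h4]; group
    have h4 : σ ((b : G) * (a : G)⁻¹) = (b : G) * (a : G)⁻¹ := mul_mem b.2 (inv_mem a.2)
    have h5 := hfpf _ h4 h2
    apply Subtype.ext
    exact (mul_inv_eq_one.1 h5).symm
  have hfs : Function.Surjective f := Finite.injective_iff_surjective.1 hfi
  have hinv : ∀ y, σ y = y → t y = y⁻¹ := by
    intro y hy
    obtain ⟨x, hx⟩ := hfs ⟨y, hy⟩
    have h1 : y = (x : G)⁻¹ * t x := (congrArg Subtype.val hx).symm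
    rw [h1, map_mul, map_inv, ht2]
    group
  refine ⟨h3, hσ3, ?_, ?_⟩
  · intro x y hx hy
    have h1 := hinv (x * y) (by rw [map_mul, hx, hy])
    rw [map_mul, hinv x hx, hinv y hy, mul_inv_rev] at h1
    have h2 : (x⁻¹ * y⁻¹)⁻¹ = (y⁻¹ * x⁻¹)⁻¹ := by rw [h1]
    simpa using h2.symm
  · intro x hx hxx
    apply hfpf x hx
    rw [hinv x hx]
    exact inv_eq_of_mul_eq_one_left hxx

set_option maxRecDepth 100000 in
set_option synthInstance.maxSize 1000 in
set_option synthInstance.maxHeartbeats 200000 in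
/-- The structure of `S₃`. -/
lemma perm_three_aux : ∀ a : Equiv.Perm (Fin 3), a ^ 3 = 1 → a ≠ 1 →
    ∃ t : Equiv.Perm (Fin 3), t * t = 1 ∧ t * a * t = a * a ∧
      ∀ b : Equiv.Perm (Fin 3), b = 1 ∨ b = a ∨ b = a * a ∨ b = t ∨ b = a * t ∨ b = a * a * t := by
  decide

/-- The final form. -/
theorem final_thm (hFT : ∀ (X : Type u) [Group X] [Finite X], Odd (Nat.card X) → Group.IsSolvable X)
    (h3 : ¬ 3 ∣ Nat.card G) (Sig : Subgroup (MulAut G)) (hS3 : Nonempty (↥Sig ≃* Equiv.Perm (Fin 3)))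
    (hfpf : ∀ g : G, (∀ σ ∈ Sig, σ g = g) → g = 1) :
    Group.IsSolvable G ∧ ¬ 2 ∣ (pPrimePCore 2 G).index ∧ ∀ σ ∈ Sig, orderOf σ = 3 →
      pPrimePCore 2 G ⊔ Subgroup.closure {g : G | σ g = g} = ⊤ := by
  classical
  obtain ⟨e⟩ := hS3
  have hkey : ∀ σ ∈ Sig, orderOf σ = 3 → Concl (σ : G ≃* G) := by
    intro σ hσ hord
    have ha3 : (e ⟨σ, hσ⟩) ^ 3 = 1 := by
      rw [← map_pow]
      have : (⟨σ, hσ⟩ : Sig) ^ 3 = 1 := by
        apply Subtype.ext
        show σ ^ 3 = 1
        rw [← hord]; exact pow_orderOf_eq_one σ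
      rw [this, map_one]
    have ha1 : e ⟨σ, hσ⟩ ≠ 1 := by
      intro h1
      have h2 : (⟨σ, hσ⟩ : Sig) = 1 := by
        apply e.injective
        rw [h1, map_one]
      have h4 : σ = 1 := congrArg Subtype.val h2
      rw [h4, orderOf_one] at hord
      omega
    obtain ⟨t', ht1, ht2, hall⟩ := perm_three_aux _ ha3 ha1
    obtain ⟨t, ht⟩ : ∃ t : Sig, t = e.symm t' := ⟨_, rfl⟩
    have het : e t = t' := by rw [ht]; simp
    have hσ3 : σ ^ 3 = 1 := by rw [← hord]; exact pow_orderOf_eq_one σ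
    have htt : (t : MulAut G) * t = 1 := by
      have : t * t = 1 := by
        apply e.injective
        rw [map_mul, het, ht1, map_one]
      exact congrArg Subtype.val this
    have hrel : (t : MulAut G) * σ * t = σ * σ := by
      have : t * ⟨σ, hσ⟩ * t = ⟨σ, hσ⟩ * ⟨σ, hσ⟩ := by
        apply e.injective
        simp only [map_mul, het]
        exact ht2
      exact congrArg Subtype.val this
    have hyp : Hyp (σ : G ≃* G) := by
      refine hyp_of_pair h3 σ t ?_ ?_ ?_ ?_
      · intro x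
        have := congrArg (fun τ : MulAut G => τ x) hσ3
        simpa [pow_succ] using this
      · intro x
        exact congrArg (fun τ : MulAut G => τ x) htt
      · intro x
        exact congrArg (fun τ : MulAut G => τ x) hrel
      · intro x hx hx2
        apply hfpf
        intro τ hτ
        have hb := hall (e ⟨τ, hτ⟩)
        have hτe : ∀ y : Equiv.Perm (Fin 3), e ⟨τ, hτ⟩ = y → (⟨τ, hτ⟩ : Sig) = e.symm y := by
          intro y hy
          rw [← hy]; simp
        have hσe : e.symm (e ⟨σ, hσ⟩) = ⟨σ, hσ⟩ := by simp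
        have htt' : e.symm t' = t := ht.symm
        have hcases : τ = 1 ∨ τ = σ ∨ τ = σ * σ ∨ τ = t ∨ τ = σ * t ∨ τ = σ * σ * t := by
          rcases hb with h1 | h1 | h1 | h1 | h1 | h1
          · left
            have := hτe _ h1
            rw [map_one] at this
            exact congrArg Subtype.val this
          · right; left
            have := hτe _ h1
            rw [hσe] at this
            exact congrArg Subtype.val this
          · right; right; left
            have := hτe _ h1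
            rw [map_mul, hσe] at this
            exact congrArg Subtype.val this
          · right; right; right; left
            have := hτe _ h1
            rw [htt'] at this
            exact congrArg Subtype.val this
          · right; right; right; right; left
            have := hτe _ h1
            rw [map_mul, htt', hσe] at this
            exact congrArg Subtype.val this
          · right; right; right; right; right
            have := hτe _ h1
            rw [map_mul, map_mul, htt', hσe] at this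
            exact congrArg Subtype.val this
        have hxσ : σ x = x := hx
        have hxt : (t : MulAut G) x = x := hx2
        rcases hcases with rfl | rfl | rfl | rfl | rfl | rfl
        · rfl
        · exact hxσ
        · show σ (σ x) = x
          rw [hxσ, hxσ]
        · exact hxt
        · show σ ((t : MulAut G) x) = x
          rw [hxt, hxσ]
        · show σ (σ ((t : MulAut G) x)) = x
          rw [hxt, hxσ, hxσ]
    exact main_thm hFT _ G rfl σ hyp
  -- an element of order 3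
  have hex : ∃ σ ∈ Sig, orderOf σ = 3 := by
    let a : Equiv.Perm (Fin 3) := finRotate 3
    have ha3 : a ^ 3 = 1 := by decide
    have ha1 : a ≠ 1 := by decide
    refine ⟨(e.symm a : MulAut G), (e.symm a).2, ?_⟩
    have h1 : orderOf (e.symm a) = 3 := by
      have : Fact (Nat.Prime 3) := ⟨Nat.prime_three⟩
      apply orderOf_eq_prime
      · rw [← map_pow, ha3, map_one]
      · intro h2
        apply ha1
        have := congrArg e h2
        simpa using this
    exact (Subgroup.orderOf_coe _).trans h1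
  obtain ⟨σ₀, hσ₀, hord₀⟩ := hex
  obtain ⟨h1, h2, -⟩ := hkey σ₀ hσ₀ hord₀
  refine ⟨h1, h2, fun σ hσ hord => ?_⟩
  have h4 := (hkey σ hσ hord).2.2
  have e5 : Subgroup.closure {g : G | σ g = g} = fixSub (σ : G ≃* G) := by
    have : {g : G | σ g = g} = ((fixSub (σ : G ≃* G) : Subgroup G) : Set G) := rfl
    rw [this, Subgroup.closure_eq]
  rw [e5]
  exact h4

end wrap

end Cfsg.Agent.Lib.FpfS3.Reduce
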